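import Groth.Agent.PicRep.DescRep

/-!
# The presheaf of elements on a finite cover with equal restrictions to the overlap
-/

set_option autoImplicit false
set_option maxHeartbeats 1000000
set_option linter.style.haveILetI false
set_option backward.isDefEq.respectTransparency false
set_option backward.isDefEq.respectTransparency.types false

universe u

open CategoryTheory CategoryTheory.Limits AlgebraicGeometry Opposite

noncomputable section

namespace Groth.Agent.PicDegField

open Groth.Agent.DescRep

variable {S S' : Scheme.{u}} (q : S' ⟶ S) (G : (Over S)ᵒᵖ ⥤ Type u)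

/-- Elements on the cover with equal restrictions to the overlap. -/
def plus : (Over S)ᵒᵖ ⥤ Type u where
  obj T := {x : G.obj (op ((B q).obj T.unop)) // G.map (π₁ q T.unop).op x = G.map (π₂ q T.unop).op x}
  map {T T'} w := TypeCat.ofHom fun x => ⟨G.map ((B q).map w.unop).op x.1, by
    rw [map_map G, map_map G, ← π₁_nat, ← π₂_nat, ← map_map G, ← map_map G, x.2]⟩
  map_id T := by
    ext x
    show G.map ((B q).map (𝟙 T.unop)).op x.1 = x.1
    rw [CategoryTheory.Functor.map_id, op_id, Functor.map_id_apply]
  map_comp {T T' T''} v w := by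
    ext x
    show G.map ((B q).map (w.unop ≫ v.unop)).op x.1 = _
    rw [Functor.map_comp, op_comp, Functor.map_comp_apply]
    rfl

theorem plus_map_val {T T' : Over S} (w : T' ⟶ T) (x : (plus q G).obj (op T)) :
    ((plus q G).map w.op x).1 = G.map ((B q).map w).op x.1 := rfl

/-- The comparison map. -/
def toPlus (T : Over S) (z : G.obj (op T)) : (plus q G).obj (op T) :=
  ⟨G.map (pr q T).op z, by rw [map_map G, map_map G, π_pr]⟩

theorem toPlus_nat {T T' : Over S} (w : T' ⟶ T) (z : G.obj (op T)) :
    (plus q G).map w.op (toPlus q G T z) = toPlus q G T' (G.map w.op z) := by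
  refine Subtype.ext ?_
  show G.map ((B q).map w).op (G.map (pr q T).op z) = G.map (pr q T').op (G.map w.op z)
  rw [map_map G, map_map G, pr_nat]

/-- The section of the cover given by a lift of the structure morphism. -/
def sec (T : Over S) (a : T.left ⟶ S') (ha : a ≫ q = T.hom) : T ⟶ (B q).obj T :=
  Over.homMk (pullback.lift (𝟙 _) a (by rw [Category.id_comp, ha])) (by simp [B, ha])

theorem sec_pr (T : Over S) (a : T.left ⟶ S') (ha : a ≫ q = T.hom) : sec q T a ha ≫ pr q T = 𝟙 T :=
  Over.OverMorphism.ext (by simp [sec, pr])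

/-- The comparison with the overlap. -/
def secOverlap (T : Over S) (a : T.left ⟶ S') (ha : a ≫ q = T.hom) : (B q).obj T ⟶ (B (q₂ q)).obj T :=
  Over.homMk (pullback.lift (pullback.fst T.hom q)
    (pullback.lift (pullback.snd T.hom q) (pullback.fst T.hom q ≫ a)
      (by rw [Category.assoc, ha, pullback.condition]))
    (by rw [q₂, pullback.lift_fst_assoc, pullback.condition])) (by simp [B])

theorem secOverlap_π₁ (T : Over S) (a : T.left ⟶ S') (ha : a ≫ q = T.hom) :
    secOverlap q T a ha ≫ π₁ q T = 𝟙 _ :=
  Over.OverMorphism.ext (pullback.hom_ext (by simp [secOverlap, π₁, B]) (by simp [secOverlap, π₁, B]))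

theorem secOverlap_π₂ (T : Over S) (a : T.left ⟶ S') (ha : a ≫ q = T.hom) :
    secOverlap q T a ha ≫ π₂ q T = pr q T ≫ sec q T a ha :=
  Over.OverMorphism.ext (pullback.hom_ext (by simp [secOverlap, π₂, pr, sec, B]) (by simp [secOverlap, π₂, pr, sec, B]))

/-- **On objects over the cover the comparison is bijective.** -/
def plusEquiv (T : Over S) (a : T.left ⟶ S') (ha : a ≫ q = T.hom) : G.obj (op T) ≃ (plus q G).obj (op T) where
  toFun := toPlus q G T
  invFun x := G.map (sec q T a ha).op x.1
  left_inv z := by
    show G.map _ (G.map _ z) = z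
    rw [map_map G, sec_pr, op_id, Functor.map_id_apply]
  right_inv x := by
    refine Subtype.ext ?_
    show G.map (pr q T).op (G.map (sec q T a ha).op x.1) = x.1
    rw [map_map G, ← secOverlap_π₂, ← map_map G, ← x.2, map_map G, secOverlap_π₁, op_id, Functor.map_id_apply]

theorem toPlus_injective (T : Over S) (a : T.left ⟶ S') (ha : a ≫ q = T.hom) :
    Function.Injective (toPlus q G T) := (plusEquiv q G T a ha).injective

/-- The comparison of the iterated cover with the overlap. -/
def iter (T : Over S) : (B q).obj ((B q).obj T) ⟶ (B (q₂ q)).obj T :=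
  Over.homMk (pullback.lift (pullback.fst ((B q).obj T).hom q ≫ pullback.fst T.hom q)
    (pullback.lift (pullback.fst ((B q).obj T).hom q ≫ pullback.snd T.hom q) (pullback.snd ((B q).obj T).hom q)
      (by rw [Category.assoc]; exact pullback.condition))
    (by rw [Category.assoc, pullback.condition, q₂, pullback.lift_fst_assoc, Category.assoc]))
    (by simp [B, q₂]; exact pullback.condition)

theorem iter_π₁ (T : Over S) : iter q T ≫ π₁ q T = pr q ((B q).obj T) :=
  Over.OverMorphism.ext (pullback.hom_ext (by simp [iter, π₁, pr, B]) (by simp [iter, π₁, pr, B]))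

theorem iter_π₂ (T : Over S) : iter q T ≫ π₂ q T = (B q).map (pr q T) :=
  Over.OverMorphism.ext (pullback.hom_ext (by simp [iter, π₂, pr, B]) (by simp [iter, π₂, pr, B]))

/-- An element of the modified presheaf, read on the cover. -/
theorem map_pr (T : Over S) (y : (plus q G).obj (op T)) :
    (plus q G).map (pr q T).op y = toPlus q G _ y.1 := by
  refine Subtype.ext ?_
  show G.map ((B q).map (pr q T)).op y.1 = G.map (pr q ((B q).obj T)).op y.1
  rw [← iter_π₁, ← iter_π₂, ← map_map G, ← map_map G, y.2]

theorem eq_of_map_pr (T : Over S) {y y' : (plus q G).obj (op T)}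
    (h : (plus q G).map (pr q T).op y = (plus q G).map (pr q T).op y') : y = y' := by
  rw [map_pr, map_pr] at h
  exact Subtype.ext (toPlus_injective q G _ (pullback.snd T.hom q) rfl h)

/-- **The sheaf property along the cover.** -/
theorem existsUnique_plus (T : Over S) (x : (plus q G).obj (op ((B q).obj T)))
    (h : (plus q G).map (π₁ q T).op x = (plus q G).map (π₂ q T).op x) :
    ∃! y : (plus q G).obj (op T), (plus q G).map (pr q T).op y = x := by
  let e := plusEquiv q G ((B q).obj T) (pullback.snd T.hom q) rfl
  have hx : toPlus q G _ (e.symm x) = x := e.apply_symm_apply x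
  let y : (plus q G).obj (op T) := ⟨e.symm x, by
    refine toPlus_injective q G ((B (q₂ q)).obj T) (pullback.snd T.hom (q₂ q) ≫ pullback.fst q q) ?_ ?_
    · simp [B, q₂]
    · rw [← toPlus_nat, ← toPlus_nat, hx, h]⟩
  exact ⟨y, (map_pr q G T y).trans hx, fun y' hy' => eq_of_map_pr q G T (hy'.trans ((map_pr q G T y).trans hx).symm)⟩

end Groth.Agent.PicDegField
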