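import Groth.Agent.JacBC.Basic
import Groth.Agent.AlbCurve.ClosedImm
import Groth.Agent.PicDegField.Plus

/-!
# Classes of a given fibre degree modulo the base
-/

set_option autoImplicit false
set_option maxHeartbeats 1600000
set_option linter.style.haveILetI false
set_option linter.unusedSectionVars false
set_option backward.isDefEq.respectTransparency false
set_option backward.isDefEq.respectTransparency.types false

universe u

open CategoryTheory CategoryTheory.Limits AlgebraicGeometry TopologicalSpace Opposite MonoidalCategory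
  CartesianMonoidalCategory MonObj

noncomputable section

namespace Groth.Agent.PicDegField

open Groth.Agent Groth.Agent.PicRep Groth.Agent.AlbCurve
open Groth.Agent.JacVarLib (InvU Pc pullPc pullPc_val pullPc_comp ext_val out cl_out isInvertible_out dg)
open Groth.Agent.GenusOneX (sct sct_proj pt comp_pt)
open scoped Groth.Agent.H23.PicMul

attribute [local instance] Jacobian.curveOver GenusOneX.fibreOver GenusOneX.flat_of_family GenusOneX.lfp_of_family

variable {X S : Scheme.{u}} (f : X ⟶ S) [IsProper f] [SmoothOfRelativeDimension 1 f] [GeometricallyConnected f]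

/-- The class of an invertible family. -/
def cls {T : Over S} (E : (PicF.XT f T).Modules) (hE : PicF.IsInvertible E) : Pc (PicF.XT f T) :=
  toPc (PicF.cl E) ⟨E, rfl, hE⟩

theorem cls_val {T : Over S} (E : (PicF.XT f T).Modules) (hE : PicF.IsInvertible E) :
    (cls f E hE).1.val = PicF.cl E := toPc_val _ _

/-- A class has degree `d` on every fibre. -/
def HasDeg (d : ℤ) (T : Over S) (v : Pc (PicF.XT f T)) : Prop := ∀ t, DegData.deg f T v.1.val t = d

theorem hasDeg_zero {T : Over S} {v : Pc (PicF.XT f T)} : HasDeg f 0 T v ↔ v ∈ PZ f T := mem_PZ.symm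

variable {f}

theorem HasDeg.mul {d d' : ℤ} {T : Over S} {v w : Pc (PicF.XT f T)} (hv : HasDeg f d T v) (hw : HasDeg f d' T w) :
    HasDeg f (d + d') T (v * w) := fun t => (deg_mul' _ v w t).trans (by rw [hv t, hw t])

theorem HasDeg.inv {d : ℤ} {T : Over S} {v : Pc (PicF.XT f T)} (hv : HasDeg f d T v) :
    HasDeg f (-d) T v⁻¹ := fun t => (deg_inv' _ v t).trans (by rw [hv t])

theorem HasDeg.pull {d : ℤ} {T T' : Over S} {v : Pc (PicF.XT f T)} (g : T' ⟶ T) (hv : HasDeg f d T v) :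
    HasDeg f d T' (pullPc (PicF.XTmap f g) v) := fun t => (deg_pullPc g v t).trans (hv _)

theorem HasDeg.base {T : Over S} (m : Pc T.left) : HasDeg f 0 T (pullPc (PicF.XTproj f T) m) :=
  mem_PZ.1 (base_mem_PZ m)

theorem HasDeg.pow {d : ℤ} {T : Over S} {v : Pc (PicF.XT f T)} (hv : HasDeg f d T v) :
    ∀ n : ℕ, HasDeg f (n * d) T (v ^ n)
  | 0 => by rw [pow_zero, Nat.cast_zero, zero_mul]; exact (hasDeg_zero f).2 (one_mem _)
  | n + 1 => by
    rw [pow_succ, show ((n + 1 : ℕ) : ℤ) * d = n * d + d by push_cast; ring]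
    exact (hv.pow n).mul hv

theorem HasDeg.zpow {d : ℤ} {T : Over S} {v : Pc (PicF.XT f T)} (hv : HasDeg f d T v) :
    ∀ n : ℤ, HasDeg f (n * d) T (v ^ n)
  | (n : ℕ) => by rw [zpow_natCast]; exact hv.pow n
  | Int.negSucc n => by
    rw [zpow_negSucc, show Int.negSucc n * d = -(((n + 1 : ℕ) : ℤ) * d) by rw [Int.negSucc_eq]; push_cast; ring]
    exact (hv.pow (n + 1)).inv

/-- The ideal of a point has degree minus one. -/
theorem hasDeg_ptPc {T : Over S} (P : T ⟶ Over.mk f) : HasDeg f (-1) T (ptPc P) := by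
  intro t
  obtain ⟨Ω, _, _, τ, g, rfl⟩ := exists_geom (S := S) t
  rw [← deg_pullPc g, pull_ptPc]
  have hdimC := Jacobian.curve_dim f τ
  haveI := CurveCohLib.isNoetherian_of_proper (k := Ω) (X := PicF.XT f (Over.mk τ))
  rw [deg_eq_dg f τ _ (IsLocalRing.closedPoint Ω)]
  obtain ⟨p, hp, hQ⟩ := Jacobian.exists_ptMod_eq f τ (g ≫ P)
  obtain ⟨e⟩ := H23.PicMul.cl_eq_iff.1 (show PicF.cl (out (ptPc (g ≫ P))) = PicF.cl (CurvePoint.ptMod p hp) by
    rw [cl_out, ptPc_val, hQ])
  exact (CurveRR.deg_congr Ω e 1).trans (CurvePoint.deg_ptMod p hp Ω)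

variable (f)

theorem fibDeg_iff (d : ℤ) {T : Over S} {E : (PicF.XT f T).Modules} (hE : PicF.IsInvertible E) :
    ModFun.FibDeg f 1 d T E ↔ HasDeg f d T (cls f E hE) := by
  have key : ∀ (Ω : Type u) [Field Ω] [IsAlgClosed Ω] (t : Spec (CommRingCat.of Ω) ⟶ T.left),
      Curv2.deg Ω (PicF.XT f (Over.mk (t ≫ T.hom)))
          ((Scheme.Modules.pullback (PicF.XTmap f (Over.homMk t rfl : Over.mk (t ≫ T.hom) ⟶ T))).obj E) 1 =
        DegData.deg f T (cls f E hE).1.val (t (IsLocalRing.closedPoint Ω)) := by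
    intro Ω _ _ t
    let g : Over.mk (t ≫ T.hom) ⟶ T := Over.homMk t rfl
    have h : DegData.deg f T (cls f E hE).1.val (g.left (IsLocalRing.closedPoint Ω)) =
        dg Ω (pullPc (PicF.XTmap f g) (cls f E hE)) := by
      rw [← deg_pullPc g]
      exact deg_eq_dg f (t ≫ T.hom) _ _
    refine Eq.trans ?_ h.symm
    obtain ⟨e⟩ := H23.PicMul.cl_eq_iff.1
      (show PicF.cl ((Scheme.Modules.pullback (PicF.XTmap f g)).obj E) =
        PicF.cl (out (pullPc (PicF.XTmap f g) (cls f E hE))) by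
        rw [cl_out, pullPc_val, cls_val]; rfl)
    exact CurveRR.deg_congr Ω (X := PicF.XT f (Over.mk (t ≫ T.hom))) e 1
  refine ⟨fun h t => ?_, fun h Ω _ _ t => (key Ω t).trans (h _)⟩
  obtain ⟨Ω, _, _, τ, g, rfl⟩ := exists_geom t
  exact (key Ω g.left).symm.trans (h Ω g.left)

theorem invertible_of_okD {d : ℤ} {T : Over S} {E : (PicF.XT f T).Modules} (h : (ModFun.PicDeg f d).ok T E) :
    PicF.IsInvertible E :=
  CurveDuality.isInvertible_of_rank_one h.1.2

theorem hasDeg_of_ok {d : ℤ} {T : Over S} {E : (PicF.XT f T).Modules} (h : (ModFun.PicDeg f d).ok T E) :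
    HasDeg f d T (cls f E (invertible_of_okD f h)) := (fibDeg_iff f d _).1 h.2

theorem ok_of_hasDeg {d : ℤ} {T : Over S} {E : (PicF.XT f T).Modules} (hE : PicF.IsInvertible E)
    (h : HasDeg f d T (cls f E hE)) : (ModFun.PicDeg f d).ok T E :=
  ⟨⟨trivial, InvEnd.isFinLocFreeOfRank_one hE⟩, (fibDeg_iff f d hE).2 h⟩

theorem cls_out {T : Over S} (v : Pc (PicF.XT f T)) : cls f (out v) (isInvertible_out v) = v :=
  ext_val ((cls_val f _ _).trans (cl_out v))

theorem ok_out {d : ℤ} {T : Over S} {v : Pc (PicF.XT f T)} (h : HasDeg f d T v) :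
    (ModFun.PicDeg f d).ok T (out v) :=
  ok_of_hasDeg f (isInvertible_out v) (by rw [cls_out]; exact h)

theorem cls_pull {d : ℤ} {T T' : Over S} (g : T' ⟶ T) {E : (PicF.XT f T).Modules} (hE : PicF.IsInvertible E) :
    cls f ((ModFun.PicDeg f d).pull g E) (PicClLib.isInvertible_pullback _ hE) =
      pullPc (PicF.XTmap f g) (cls f E hE) := by
  refine ext_val ?_
  rw [pullPc_val, cls_val, cls_val]
  rfl

theorem ok_pullD {d : ℤ} {T T' : Over S} (g : T' ⟶ T) {E : (PicF.XT f T).Modules}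
    (h : (ModFun.PicDeg f d).ok T E) : (ModFun.PicDeg f d).ok T' ((ModFun.PicDeg f d).pull g E) :=
  ok_of_hasDeg f (PicClLib.isInvertible_pullback _ (invertible_of_okD f h))
    (by rw [cls_pull]; exact (hasDeg_of_ok f h).pull g)

theorem cls_of_r {d : ℤ} {T : Over S} {E E' : (PicF.XT f T).Modules} (hE : PicF.IsInvertible E)
    (hE' : PicF.IsInvertible E') (h : (ModFun.PicDeg f d).r T E E') :
    ∃ m : Pc T.left, cls f E' hE' = cls f E hE * pullPc (PicF.XTproj f T) m := by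
  obtain ⟨M, hM, ⟨e⟩⟩ := h
  refine ⟨toPc (PicF.cl M) ⟨M, rfl, hM⟩, ext_val ?_⟩
  show _ = (cls f E hE).1.val * (pullPc (PicF.XTproj f T) _).1.val
  rw [pullPc_val, toPc_val, cls_val, cls_val]
  exact (H23.PicMul.cl_eq_iff.2 ⟨e⟩).trans (H23.PicMul.cl_tensor _ _)

theorem r_of_cls {d : ℤ} {T : Over S} {E E' : (PicF.XT f T).Modules} (hE : PicF.IsInvertible E)
    (hE' : PicF.IsInvertible E') (m : Pc T.left) (h : cls f E' hE' = cls f E hE * pullPc (PicF.XTproj f T) m) :
    (ModFun.PicDeg f d).r T E E' := by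
  refine ⟨out m, isInvertible_out m, H23.PicMul.cl_eq_iff.1 (Eq.trans ?_ (H23.PicMul.cl_tensor _ _).symm)⟩
  have h' := congrArg (fun z : Pc _ => z.1.val) h
  simp only [cls_val] at h'
  refine h'.trans ?_
  show (cls f E hE).1.val * (pullPc (PicF.XTproj f T) m).1.val = _
  rw [pullPc_val, cls_val, ← cl_out m]
  rfl

/-- Classes modulo the base. -/
abbrev BQ (T : Over S) : Type _ := Pc (PicF.XT f T) ⧸ (pullPc (PicF.XTproj f T)).range

theorem mk_eq_mk {T : Over S} {v w : Pc (PicF.XT f T)} :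
    (QuotientGroup.mk v : BQ f T) = QuotientGroup.mk w ↔ ∃ m, w = v * pullPc (PicF.XTproj f T) m := by
  rw [QuotientGroup.eq]
  exact ⟨fun ⟨m, hm⟩ => ⟨m, by rw [hm, mul_inv_cancel_left]⟩, fun ⟨m, hm⟩ => ⟨m, by rw [hm, inv_mul_cancel_left]⟩⟩

/-- Classes of degree `d` modulo the base. -/
def DQ (d : ℤ) (T : Over S) : Type _ := {c : BQ f T // ∃ v, HasDeg f d T v ∧ QuotientGroup.mk v = c}

instance small_DQ (d : ℤ) (T : Over S) : Small.{u} (DQ f d T) :=
  small_of_surjective (f := fun v : {v : Pc (PicF.XT f T) // HasDeg f d T v} =>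
      (⟨QuotientGroup.mk v.1, v.1, v.2, rfl⟩ : DQ f d T))
    fun ⟨_, v, hv, e⟩ => ⟨⟨v, hv⟩, Subtype.ext e⟩

theorem XTmap_proj {T T' : Over S} (g : T' ⟶ T) (m : Pc T.left) :
    pullPc (PicF.XTmap f g) (pullPc (PicF.XTproj f T) m) =
      pullPc (PicF.XTproj f T') (pullPc g.left m) := by
  rw [pullPc_comp, pullPc_comp, (LineDesc.Rig.isPullback_XTmap (f := f) g).w]

/-- Pullback of classes modulo the base. -/
def pullDQ {d : ℤ} {T T' : Over S} (g : T' ⟶ T) (c : DQ f d T) : DQ f d T' :=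
  ⟨QuotientGroup.map _ _ (pullPc (PicF.XTmap f g))
      (by rintro _ ⟨m, rfl⟩; exact ⟨pullPc g.left m, (XTmap_proj f g m).symm⟩) c.1, by
    obtain ⟨v, hv, e⟩ := c.2
    exact ⟨pullPc (PicF.XTmap f g) v, hv.pull g, by rw [← e]; rfl⟩⟩

theorem pullDQ_id {d : ℤ} {T : Over S} (c : DQ f d T) : pullDQ f (𝟙 T) c = c := by
  obtain ⟨c, v, hv, rfl⟩ := c
  refine Subtype.ext ?_
  show QuotientGroup.mk (pullPc (PicF.XTmap f (𝟙 T)) v) = QuotientGroup.mk v
  rw [LineDesc.Rig.XTmap_id, pullPc_id]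

theorem pullDQ_comp {d : ℤ} {T T' T'' : Over S} (h : T'' ⟶ T') (g : T' ⟶ T) (c : DQ f d T) :
    pullDQ f (h ≫ g) c = pullDQ f h (pullDQ f g c) := by
  obtain ⟨c, v, hv, rfl⟩ := c
  refine Subtype.ext ?_
  show QuotientGroup.mk (pullPc (PicF.XTmap f (h ≫ g)) v) =
    QuotientGroup.mk (pullPc (PicF.XTmap f h) (pullPc (PicF.XTmap f g) v))
  rw [pullPc_comp, LineDesc.Rig.XTmap_comp]

/-- The presheaf of classes of degree `d` modulo the base. -/
def gD (d : ℤ) : (Over S)ᵒᵖ ⥤ Type u where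
  obj T := Shrink.{u} (DQ f d T.unop)
  map g := TypeCat.ofHom fun x => equivShrink _ (pullDQ f g.unop ((equivShrink _).symm x))
  map_id T := by
    ext x
    refine congrArg (fun z => (equivShrink (DQ f d T.unop)).symm z) ?_
    show equivShrink _ (pullDQ f (𝟙 T.unop) ((equivShrink _).symm x)) = x
    rw [pullDQ_id, Equiv.apply_symm_apply]
  map_comp g h := by
    ext x
    refine congrArg (fun z => (equivShrink _).symm z) ?_
    show equivShrink _ (pullDQ f (h.unop ≫ g.unop) _) =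
      equivShrink _ (pullDQ f h.unop ((equivShrink _).symm (equivShrink _ (pullDQ f g.unop ((equivShrink _).symm x)))))
    rw [pullDQ_comp, Equiv.symm_apply_apply]

/-- The element of a class. -/
def mkD (d : ℤ) {T : Over S} (v : Pc (PicF.XT f T)) (hv : HasDeg f d T v) : (gD f d).obj (op T) :=
  equivShrink _ (⟨QuotientGroup.mk v, v, hv, rfl⟩ : DQ f d T)

theorem mkD_eq {d : ℤ} {T : Over S} {v w : Pc (PicF.XT f T)} {hv : HasDeg f d T v} {hw : HasDeg f d T w} :
    mkD f d v hv = mkD f d w hw ↔ ∃ m, w = v * pullPc (PicF.XTproj f T) m := by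
  refine Iff.trans ((equivShrink (DQ f d T)).apply_eq_iff_eq) ?_
  exact Subtype.ext_iff.trans (mk_eq_mk f)

theorem mkD_congr {d : ℤ} {T : Over S} {v w : Pc (PicF.XT f T)} {hv : HasDeg f d T v} {hw : HasDeg f d T w}
    (h : v = w) : mkD f d v hv = mkD f d w hw := by subst h; rfl

theorem map_mkD {d : ℤ} {T T' : Over S} (g : T' ⟶ T) (v : Pc (PicF.XT f T)) (hv : HasDeg f d T v) :
    (gD f d).map g.op (mkD f d v hv) = mkD f d (pullPc (PicF.XTmap f g) v) (hv.pull g) := by
  show equivShrink _ (pullDQ f g ((equivShrink _).symm (equivShrink _ _))) = _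
  rw [Equiv.symm_apply_apply]
  rfl

theorem exists_mkD {d : ℤ} {T : Over S} (x : (gD f d).obj (op T)) : ∃ v hv, mkD f d v hv = x := by
  obtain ⟨v, hv, e⟩ := ((equivShrink (DQ f d T)).symm x).2
  exact ⟨v, hv, (Equiv.eq_symm_apply _).1 (Subtype.ext e)⟩

end Groth.Agent.PicDegField
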