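import Groth.Agent.PicDegField.Classes

/-!
# Classes of degree `d` over a base with a section and rigidified classes of degree zero
-/

set_option autoImplicit false
set_option maxHeartbeats 1600000
set_option linter.style.haveILetI false
set_option linter.unusedSectionVars false
set_option backward.isDefEq.respectTransparency false
set_option backward.isDefEq.respectTransparency.types false

universe u

open CategoryTheory CategoryTheory.Limits AlgebraicGeometry TopologicalSpace Opposite MonoidalCategory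
  CartesianMonoidalCategory MonObj

noncomputable section

namespace Groth.Agent.PicDegField

open Groth.Agent Groth.Agent.PicRep Groth.Agent.AlbCurve
open Groth.Agent.JacVarLib (InvU Pc pullPc pullPc_val pullPc_comp ext_val out cl_out isInvertible_out dg)
open Groth.Agent.GenusOneX (sct sct_proj pt comp_pt)
open scoped Groth.Agent.H23.PicMul

attribute [local instance] GenusOneX.fibreOver GenusOneX.flat_of_family GenusOneX.lfp_of_family

variable {X S S' : Scheme.{u}} (f : X ⟶ S) [IsProper f] [SmoothOfRelativeDimension 1 f] [GeometricallyConnected f]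
  (q : S' ⟶ S) (σ' : S' ⟶ pullback f q) (hσ' : σ' ≫ bcf f q = 𝟙 S') (d : ℤ)

theorem hasDeg_eT {T : Over S'} (v : Pc (PicF.XT f ((Over.map q).obj T))) (e : ℤ) :
    HasDeg (bcf f q) e T (pullPc (eT f q T).hom v) ↔ HasDeg f e ((Over.map q).obj T) v :=
  forall_congr' fun t => by rw [deg_eT f q T v t]

/-- The twisting class, of degree `-d`. -/
def tw (T : Over S') : Pc (PicF.XT (bcf f q) T) := ptPc (pt (bcf f q) σ' hσ' T) ^ d

theorem hasDeg_tw (T : Over S') : HasDeg (bcf f q) (-d) T (tw f q σ' hσ' d T) := by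
  have h := (hasDeg_ptPc (pt (bcf f q) σ' hσ' T)).zpow d
  rwa [mul_neg, _root_.mul_one] at h

theorem pull_tw {T T' : Over S'} (g : T' ⟶ T) :
    pullPc (PicF.XTmap (bcf f q) g) (tw f q σ' hσ' d T) = tw f q σ' hσ' d T' := by
  rw [tw, tw, map_zpow, pull_ptPc, comp_pt]

/-- The rigidified class of degree zero attached to a class of degree `d`. -/
def toR {T : Over S'} (v : Pc (PicF.XT f ((Over.map q).obj T))) : Pc (PicF.XT (bcf f q) T) :=
  rho (bcf f q) σ' hσ' (pullPc (eT f q T).hom v * tw f q σ' hσ' d T)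

theorem toR_mem {T : Over S'} {v : Pc (PicF.XT f ((Over.map q).obj T))}
    (hv : HasDeg f d ((Over.map q).obj T) v) : toR f q σ' hσ' d v ∈ RZ (bcf f q) σ' hσ' T := by
  refine rho_mem_RZ ((hasDeg_zero _).1 ?_)
  have h := ((hasDeg_eT f q v d).2 hv).mul (hasDeg_tw f q σ' hσ' d T)
  rwa [add_neg_cancel] at h

theorem toR_eq_iff {T : Over S'} {v w : Pc (PicF.XT f ((Over.map q).obj T))} :
    toR f q σ' hσ' d v = toR f q σ' hσ' d w ↔ ∃ m, w = v * pullPc (PicF.XTproj f ((Over.map q).obj T)) m := by
  have hp : ∀ m : Pc T.left, pullPc (eT f q T).hom (pullPc (PicF.XTproj f ((Over.map q).obj T)) m) =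
      pullPc (PicF.XTproj (bcf f q) T) m := fun m =>
    (pullPc_comp _ _ m).trans (congrArg (fun w => pullPc w m) (JacBC.proj_eT q T))
  constructor
  · intro h
    obtain ⟨m, hm⟩ := rho_eq_iff.1 h
    refine ⟨m⁻¹, ?_⟩
    rw [mul_right_comm, mul_left_inj, ← hp, ← map_mul] at hm
    have h' := congrArg (pullPc (eT f q T).inv) hm
    rw [pull_inv_hom, pull_inv_hom] at h'
    rw [h', map_inv, mul_inv_cancel_right]
  · rintro ⟨m, rfl⟩
    have h2 : pullPc (eT f q T).hom (v * pullPc (PicF.XTproj f ((Over.map q).obj T)) m) * tw f q σ' hσ' d T =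
        (pullPc (eT f q T).hom v * tw f q σ' hσ' d T) * pullPc (PicF.XTproj (bcf f q) T) m := by
      rw [map_mul, hp m]
      exact mul_right_comm _ _ _
    show rho (bcf f q) σ' hσ' _ = rho (bcf f q) σ' hσ' _
    rw [h2]
    exact (rho_mul_base (f := bcf f q) (σ := σ') (hσ := hσ') _ m).symm

theorem pull_toR {T T' : Over S'} (g : T' ⟶ T) (v : Pc (PicF.XT f ((Over.map q).obj T))) :
    pullPc (PicF.XTmap (bcf f q) g) (toR f q σ' hσ' d v) =
      toR f q σ' hσ' d (pullPc (PicF.XTmap f ((Over.map q).map g)) v) := by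
  rw [toR, toR, pull_rho, map_mul, pull_tw, pullPc_comp, pullPc_comp, JacBC.XTmap_eT]

/-- **Classes of degree `d` modulo the base are rigidified classes of degree zero.** -/
def toR0 (T : Over S') (x : (gD f d).obj (op ((Over.map q).obj T))) : (funct0 (bcf f q) σ' hσ').obj (op T) :=
  elt0 (toR f q σ' hσ' d (exists_mkD f x).choose) (toR_mem f q σ' hσ' d (exists_mkD f x).choose_spec.choose)

theorem val0_toR0 {T : Over S'} (v : Pc (PicF.XT f ((Over.map q).obj T))) (hv : HasDeg f d ((Over.map q).obj T) v) :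
    val0 (toR0 f q σ' hσ' d T (mkD f d v hv)) = toR f q σ' hσ' d v := by
  rw [toR0, val0_elt0, toR_eq_iff]
  exact (mkD_eq f).1 (exists_mkD f (mkD f d v hv)).choose_spec.choose_spec

theorem toR0_bijective (T : Over S') : Function.Bijective (toR0 f q σ' hσ' d T) := by
  constructor
  · intro x y h
    obtain ⟨v, hv, rfl⟩ := exists_mkD f x
    obtain ⟨w, hw, rfl⟩ := exists_mkD f y
    have h' := congrArg val0 h
    rw [val0_toR0, val0_toR0, toR_eq_iff] at h'
    exact (mkD_eq f).2 h'
  · intro z
    let v := pullPc (eT f q T).inv (val0 z * (tw f q σ' hσ' d T)⁻¹)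
    have hv : HasDeg f d ((Over.map q).obj T) v := by
      refine (hasDeg_eT f q v d).1 ?_
      rw [pull_hom_inv]
      have h := ((hasDeg_zero _).2 (val0_mem z).2).mul (hasDeg_tw f q σ' hσ' d T).inv
      rwa [neg_neg, zero_add] at h
    refine ⟨mkD f d v hv, val0_injective ?_⟩
    rw [val0_toR0, toR, pull_hom_inv, inv_mul_cancel_right, rho_eq_self (val0_mem z).1]

theorem toR0_nat {T T' : Over S'} (g : T' ⟶ T) (x : (gD f d).obj (op ((Over.map q).obj T))) :
    toR0 f q σ' hσ' d T' ((gD f d).map ((Over.map q).map g).op x) =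
      (funct0 (bcf f q) σ' hσ').map g.op (toR0 f q σ' hσ' d T x) := by
  obtain ⟨v, hv, rfl⟩ := exists_mkD f x
  refine val0_injective ?_
  rw [map_mkD, val0_toR0, val0_map, val0_toR0, pull_toR]

end Groth.Agent.PicDegField
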