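import Groth.Agent.PicDegField.Moduli
import Groth.Agent.JacBC.Field

/-!
# Base change of a coarse moduli scheme of degree `d` classes to a field where the curve has a point
-/

set_option autoImplicit false
set_option maxHeartbeats 1600000
set_option linter.style.haveILetI false
set_option linter.unusedSectionVars false
set_option backward.isDefEq.respectTransparency false
set_option backward.isDefEq.respectTransparency.types false

universe u

open CategoryTheory CategoryTheory.Limits AlgebraicGeometry TopologicalSpace Opposite MonoidalCategory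
  CartesianMonoidalCategory MonObj

noncomputable section

namespace Groth.Agent.PicDegField

open Groth.Agent Groth.Agent.PicRep Groth.Agent.AlbCurve Groth.Agent.JacBC
open Groth.Agent.JacVarLib (Pc pullPc pullPc_val pullPc_comp ext_val out cl_out isInvertible_out)
open scoped Groth.Agent.H23.PicMul

attribute [local instance] GenusOneX.fibreOver GenusOneX.flat_of_family GenusOneX.lfp_of_family

section Change

variable {X S S' S'' : Scheme.{u}} (f : X ⟶ S) [IsProper f] [SmoothOfRelativeDimension 1 f]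
  [GeometricallyConnected f] (q : S' ⟶ S) (qK : S'' ⟶ S) (a : S'' ⟶ S') (ha : a ≫ q = qK) (d : ℤ)
  (σK : S'' ⟶ pullback f qK) (hσK : σK ≫ bcf f qK = 𝟙 S'')

include ha in
theorem lift_hom (T : Over S'') : (T.hom ≫ a) ≫ q = ((Over.map qK).obj T).hom := by
  rw [Category.assoc, ha]; rfl

/-- Over the bigger base the presheaf is the rigidified functor. -/
def plusR0K (T : Over S'') : (pD f q d).obj (op ((Over.map qK).obj T)) ≃ (funct0 (bcf f qK) σK hσK).obj (op T) :=
  (plusEquiv q (gD f d) ((Over.map qK).obj T) (T.hom ≫ a) (lift_hom q qK a ha T)).symm.trans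
    (Equiv.ofBijective _ (toR0_bijective f qK σK hσK d T))

theorem plusR0K_toPlus {T : Over S''} (x : (gD f d).obj (op ((Over.map qK).obj T))) :
    plusR0K f q qK a ha d σK hσK T (toPlus q (gD f d) _ x) = toR0 f qK σK hσK d T x :=
  congrArg (toR0 f qK σK hσK d T)
    ((plusEquiv q (gD f d) ((Over.map qK).obj T) (T.hom ≫ a) (lift_hom q qK a ha T)).symm_apply_apply x)

theorem plusR0K_nat {T T' : Over S''} (g : T' ⟶ T) (x : (pD f q d).obj (op ((Over.map qK).obj T))) :
    plusR0K f q qK a ha d σK hσK T' ((pD f q d).map ((Over.map qK).map g).op x) =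
      (funct0 (bcf f qK) σK hσK).map g.op (plusR0K f q qK a ha d σK hσK T x) := by
  obtain ⟨z, rfl⟩ := (plusEquiv q (gD f d) ((Over.map qK).obj T) (T.hom ≫ a) (lift_hom q qK a ha T)).surjective x
  show plusR0K f q qK a ha d σK hσK T' ((pD f q d).map ((Over.map qK).map g).op (toPlus q (gD f d) _ z)) =
    (funct0 (bcf f qK) σK hσK).map g.op (plusR0K f q qK a ha d σK hσK T (toPlus q (gD f d) _ z))
  rw [toPlus_nat, plusR0K_toPlus, plusR0K_toPlus, toR0_nat]

variable {J : Over S} (r : (pD f q d).RepresentableBy J)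

/-- The base change of the moduli scheme represents the rigidified functor. -/
def repK : (funct0 (bcf f qK) σK hσK).RepresentableBy (Red.bc qK J) where
  homEquiv {T} := ((adj qK).symm.trans r.homEquiv).trans (plusR0K f q qK a ha d σK hσK T)
  homEquiv_comp {T T'} g g' := by
    show plusR0K f q qK a ha d σK hσK T (r.homEquiv ((adj qK).symm (g ≫ g'))) = _
    rw [adj_symm_comp, r.homEquiv_comp, plusR0K_nat]
    rfl

variable {ψ : (ModFun.PicDeg f d).Hom ⊤ J}
  (hψ : ∀ (T : Over S) (E : (PicF.XT f T).Modules) (hT : (⊤ : ObjectProperty (Over S)) T)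
    (h : (ModFun.PicDeg f d).ok T E),
    r.homEquiv (ψ.app T E hT h) = toPlus q (gD f d) T (mkD f d _ (hasDeg_of_ok f h)))

include hψ in
theorem val0_repK {T : Over S''} (E : (PicF.XT f ((Over.map qK).obj T)).Modules)
    (hT : (⊤ : ObjectProperty (Over S)) ((Over.map qK).obj T)) (h : (ModFun.PicDeg f d).ok ((Over.map qK).obj T) E)
    {g : T ⟶ Red.bc qK J} (hg : (adj qK).symm g = ψ.app _ E hT h) :
    val0 ((repK f q qK a ha d σK hσK r).homEquiv g) = toR f qK σK hσK d (cls f E (invertible_of_okD f h)) := by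
  show val0 (plusR0K f q qK a ha d σK hσK T (r.homEquiv ((adj qK).symm g))) = _
  rw [hg, hψ, plusR0K_toPlus, val0_toR0]

include ha hψ in
/-- A point over the bigger base is the point of a family. -/
theorem exists_family {T : Over S''} (g : T ⟶ Red.bc qK J) :
    ∃ (E : (PicF.XT f ((Over.map qK).obj T)).Modules) (h : (ModFun.PicDeg f d).ok ((Over.map qK).obj T) E),
      (adj qK).symm g = ψ.app _ E trivial h := by
  obtain ⟨z, hz⟩ := (plusEquiv q (gD f d) ((Over.map qK).obj T) (T.hom ≫ a) (lift_hom q qK a ha T)).surjective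
    (r.homEquiv ((adj qK).symm g))
  obtain ⟨v, hv, rfl⟩ := exists_mkD f z
  refine ⟨out v, ok_out f hv, r.homEquiv.injective ?_⟩
  rw [hψ, ← hz]
  exact congrArg (toPlus q (gD f d) _) (mkD_congr f (cls_out f v).symm)

include hψ in
/-- **The classifying map after base change.** -/
theorem phi0_repK {T : Over S''} {E : (PicF.XT f ((Over.map qK).obj T)).Modules}
    (h : (ModFun.PicDeg f d).ok ((Over.map qK).obj T) E) {E' : (PicF.XT (bcf f qK) T).Modules}
    (hcl : PicF.cl E' = (pullPc (eT f qK T).hom (cls f E (invertible_of_okD f h)) * tw f qK σK hσK d T).1.val) :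
    ∃ hE' : (ModFun.PicDeg (bcf f qK) 0).ok T E',
      (adj qK).symm (phi0 (repK f q qK a ha d σK hσK r) T (PicF.cl E')) = ψ.app _ E trivial h := by
  set w := pullPc (eT f qK T).hom (cls f E (invertible_of_okD f h)) * tw f qK σK hσK d T with hw
  have hwz : w ∈ PZ (bcf f qK) T := by
    refine (hasDeg_zero _).1 ?_
    have h' := ((hasDeg_eT f qK _ d).2 (hasDeg_of_ok f h)).mul (hasDeg_tw f qK σK hσK d T)
    rwa [add_neg_cancel] at h'
  have hE' : (ModFun.PicDeg (bcf f qK) 0).ok T E' := (PicRep.ok_iff _).2 (by rw [hcl]; exact isPicZeroCl_of_mem hwz)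
  refine ⟨hE', ?_⟩
  obtain ⟨g, hg⟩ : ∃ g : T ⟶ Red.bc qK J, (adj qK).symm g = ψ.app _ E trivial h :=
    ⟨adj qK (ψ.app _ E trivial h), Equiv.symm_apply_apply _ _⟩
  have h1 : phi0 (repK f q qK a ha d σK hσK r) T (PicF.cl E') = g := by
    refine (repK f q qK a ha d σK hσK r).homEquiv.injective (val0_injective ?_)
    rw [val0_phi0_cl _ hE', val0_repK f q qK a ha d σK hσK r hψ E trivial h hg]
    exact congrArg _ (ext_val ((toPc_val _ _).trans hcl))
  rw [h1, hg]

end Change

section Mul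

variable {X S S' S'' : Scheme.{u}} (f : X ⟶ S) [IsProper f] [SmoothOfRelativeDimension 1 f]
  [GeometricallyConnected f] (q : S' ⟶ S) (qK : S'' ⟶ S) (a : S'' ⟶ S') (ha : a ≫ q = qK)
  (σK : S'' ⟶ pullback f qK) (hσK : σK ≫ bcf f qK = 𝟙 S'') {J : Over S} [GrpObj J]
  (r : (pD f q 0).RepresentableBy J) {ψ : (ModFun.PicDeg f 0).Hom ⊤ J}
  (hψ : ∀ (T : Over S) (E : (PicF.XT f T).Modules) (hT : (⊤ : ObjectProperty (Over S)) T)
    (h : (ModFun.PicDeg f 0).ok T E),
    r.homEquiv (ψ.app T E hT h) = toPlus q (gD f 0) T (mkD f 0 _ (hasDeg_of_ok f h)))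

include hψ in
/-- In degree zero the group law is the tensor product. -/
theorem val0_repK_mul (hJ : Jac.IsJacobian f ⊤ J ψ) (T : Over S'') (g g' : T ⟶ Red.bc qK J) :
    val0 ((repK f q qK a ha 0 σK hσK r).homEquiv (g * g')) =
      val0 ((repK f q qK a ha 0 σK hσK r).homEquiv g) * val0 ((repK f q qK a ha 0 σK hσK r).homEquiv g') := by
  obtain ⟨E, h, hg⟩ := exists_family f q qK a ha 0 r hψ g
  obtain ⟨E', h', hg'⟩ := exists_family f q qK a ha 0 r hψ g'
  let v := cls f E (invertible_of_okD f h) * cls f E' (invertible_of_okD f h')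
  have hv : HasDeg f 0 ((Over.map qK).obj T) v := by
    have := (hasDeg_of_ok f h).mul (hasDeg_of_ok f h')
    rwa [add_zero] at this
  have hgg : (adj qK).symm (g * g') = ψ.app _ (out v) trivial (ok_out f hv) := by
    rw [adj_symm_mul, hg, hg']
    refine (hJ.mul _ trivial E E' (out v) h h' (ok_out f hv) (H23.PicMul.cl_eq_iff.1 ?_)).symm
    rw [cl_out, H23.PicMul.cl_tensor, Subgroup.coe_mul, Units.val_mul, cls_val, cls_val]
  rw [val0_repK f q qK a ha 0 σK hσK r hψ _ trivial _ hgg, val0_repK f q qK a ha 0 σK hσK r hψ _ trivial _ hg,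
    val0_repK f q qK a ha 0 σK hσK r hψ _ trivial _ hg', cls_out, toR, toR, toR, tw, zpow_zero,
    _root_.mul_one, _root_.mul_one, _root_.mul_one, map_mul]
  exact map_mul (rhoHom (bcf f qK) σK hσK T) _ _

end Mul

section Exists

variable {k : Type u} [Field k] {C : Scheme.{u}} [C.Over (Spec (CommRingCat.of k))]
  [IsProper (C ↘ Spec (CommRingCat.of k))] [SmoothOfRelativeDimension 1 (C ↘ Spec (CommRingCat.of k))]
  [GeometricallyConnected (C ↘ Spec (CommRingCat.of k))]

attribute [local instance] overCK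

/-- **A coarse moduli scheme of classes of degree `d` represents the presheaf of a finite cover.** -/
theorem exists_repD (hdim : topologicalKrullDim C = 1) {d : ℤ} {J : Over (Spec (CommRingCat.of k))}
    {ψ : (ModFun.PicDeg (C ↘ Spec (CommRingCat.of k)) d).Hom ⊤ J}
    (hJ : ModFun.IsCoarseModuli ⊤ (ModFun.PicDeg (C ↘ Spec (CommRingCat.of k)) d) J ψ) :
    ∃ (k' : Type u) (_ : Field k') (_ : Algebra k k') (_ : Module.Finite k k')
      (r : (pD (C ↘ Spec (CommRingCat.of k)) (spq k k') d).RepresentableBy J),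
      ∀ (T : Over (Spec (CommRingCat.of k))) (E : (PicF.XT (C ↘ Spec (CommRingCat.of k)) T).Modules)
        (hT : (⊤ : ObjectProperty (Over (Spec (CommRingCat.of k)))) T)
        (h : (ModFun.PicDeg (C ↘ Spec (CommRingCat.of k)) d).ok T E),
        r.homEquiv (ψ.app T E hT h) = toPlus (spq k k') (gD _ d) T (mkD _ d _ (hasDeg_of_ok _ h)) := by
  let f := C ↘ Spec (CommRingCat.of k)
  haveI : Smooth f := SmoothOfRelativeDimension.smooth (n := 1) _
  haveI := CurveBC.isIntegral_of_h0 k C (CurveBC.finrank_h0_of_geometricallyConnected k C)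
  obtain ⟨k', _, _, _, P₀, hP₀, -⟩ := exists_points C f hdim 1
  let q := spq k k'
  let σ' : Spec (CommRingCat.of k') ⟶ CK k k' C := pullback.lift (P₀ 0) (𝟙 _) (by rw [Category.id_comp]; exact hP₀ 0)
  have hσ' : σ' ≫ CK k k' C ↘ Spec (CommRingCat.of k') = 𝟙 _ := pullback.lift_snd _ _ _
  obtain ⟨A, ⟨r'⟩, hAp, -, -, hAi⟩ := exists_jacobian σ' hσ' (dim_CK k k' hdim (C := C))
  haveI := hAp; haveI := hAi
  letI := commGrpObj r'
  haveI hqf : IsFinite q := by
    rw [IsFinite.SpecMap_iff]; exact RingHom.finite_algebraMap.2 inferInstance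
  haveI : Flat q := by
    rw [Flat.SpecMap_iff]; exact RingHom.flat_algebraMap_iff.2 inferInstance
  haveI : LocallyOfFinitePresentation q := by
    haveI : Module.FinitePresentation k k' := Module.finitePresentation_of_projective _ _
    rw [LocallyOfFinitePresentation.SpecMap_iff]; exact RingHom.finitePresentation_algebraMap.2 inferInstance
  haveI : Surjective q := ⟨fun p => ⟨IsLocalRing.closedPoint k', @Subsingleton.elim (PrimeSpectrum k) _ _ _⟩⟩
  obtain ⟨J₀, ⟨r₀⟩⟩ := exists_rep f q d σ' hσ' r' ⟨inferInstance, inferInstance, inferInstance⟩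
    (fun s m x _ => exists_affine_finite A x)
  obtain ⟨r, hr⟩ := exists_rep_of_coarse r₀ hJ.2.1
  exact ⟨k', inferInstance, inferInstance, inferInstance, r, hr⟩

/-- **The base change of a coarse moduli scheme to an algebraically closed field.** -/
theorem exists_repK (hdim : topologicalKrullDim C = 1) {d : ℤ} {J : Over (Spec (CommRingCat.of k))}
    {ψ : (ModFun.PicDeg (C ↘ Spec (CommRingCat.of k)) d).Hom ⊤ J}
    (hJ : ModFun.IsCoarseModuli ⊤ (ModFun.PicDeg (C ↘ Spec (CommRingCat.of k)) d) J ψ)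
    (K : Type u) [Field K] [Algebra k K] [IsAlgClosed K] (σK : Spec (CommRingCat.of K) ⟶ CK k K C)
    (hσK : σK ≫ bcf (C ↘ Spec (CommRingCat.of k)) (spq k K) = 𝟙 _) :
    ∃ rK : (funct0 (bcf (C ↘ Spec (CommRingCat.of k)) (spq k K)) σK hσK).RepresentableBy (Red.bc (spq k K) J),
      (∀ (T : Over (Spec (CommRingCat.of K)))
        (E : (PicF.XT (C ↘ Spec (CommRingCat.of k)) ((Over.map (spq k K)).obj T)).Modules)
        (h : (ModFun.PicDeg (C ↘ Spec (CommRingCat.of k)) d).ok ((Over.map (spq k K)).obj T) E)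
        (E' : (PicF.XT (bcf (C ↘ Spec (CommRingCat.of k)) (spq k K)) T).Modules),
        PicF.cl E' = (pullPc (eT (C ↘ Spec (CommRingCat.of k)) (spq k K) T).hom (cls _ E (invertible_of_okD _ h)) *
            tw (C ↘ Spec (CommRingCat.of k)) (spq k K) σK hσK d T).1.val →
          ∃ _hE' : (ModFun.PicDeg (bcf (C ↘ Spec (CommRingCat.of k)) (spq k K)) 0).ok T E',
            (adj (spq k K)).symm (phi0 rK T (PicF.cl E')) = ψ.app _ E trivial h) := by
  obtain ⟨k', _, _, _, r, hr⟩ := exists_repD hdim hJ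
  let i : k' →ₐ[k] K := IsAlgClosed.lift
  have ha : Spec.map (CommRingCat.ofHom i.toRingHom) ≫ spq k k' = spq k K := by
    rw [← Spec.map_comp]
    exact congrArg (fun g => Spec.map (CommRingCat.ofHom g)) i.comp_algebraMap
  exact ⟨repK _ (spq k k') (spq k K) _ ha d σK hσK r,
    fun T E h E' hcl => phi0_repK _ (spq k k') (spq k K) _ ha d σK hσK r hr h hcl⟩

/-- **The base change of a Jacobian is a Jacobian, with no rational point.** -/
theorem exists_jacobianK (hdim : topologicalKrullDim C = 1) {J : Over (Spec (CommRingCat.of k))} [GrpObj J]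
    {ψ : (ModFun.PicDeg (C ↘ Spec (CommRingCat.of k)) 0).Hom ⊤ J}
    (hJ : Jac.IsJacobian (C ↘ Spec (CommRingCat.of k)) ⊤ J ψ)
    (K : Type u) [Field K] [Algebra k K] [IsAlgClosed K] (σK : Spec (CommRingCat.of K) ⟶ CK k K C)
    (hσK : σK ≫ bcf (C ↘ Spec (CommRingCat.of k)) (spq k K) = 𝟙 _) :
    ∃ rK : (funct0 (bcf (C ↘ Spec (CommRingCat.of k)) (spq k K)) σK hσK).RepresentableBy (Red.bc (spq k K) J),
      (∀ (T : Over (Spec (CommRingCat.of K)))
        (E : (PicF.XT (C ↘ Spec (CommRingCat.of k)) ((Over.map (spq k K)).obj T)).Modules)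
        (h : (ModFun.PicDeg (C ↘ Spec (CommRingCat.of k)) 0).ok ((Over.map (spq k K)).obj T) E)
        (E' : (PicF.XT (bcf (C ↘ Spec (CommRingCat.of k)) (spq k K)) T).Modules),
        PicF.cl E' = (pullPc (eT (C ↘ Spec (CommRingCat.of k)) (spq k K) T).hom (cls _ E (invertible_of_okD _ h)) *
            tw (C ↘ Spec (CommRingCat.of k)) (spq k K) σK hσK 0 T).1.val →
          ∃ _hE' : (ModFun.PicDeg (bcf (C ↘ Spec (CommRingCat.of k)) (spq k K)) 0).ok T E',
            (adj (spq k K)).symm (phi0 rK T (PicF.cl E')) = ψ.app _ E trivial h) ∧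
      Jac.IsJacobian (CK k K C ↘ Spec (CommRingCat.of K)) ⊤ (Red.bc (spq k K) J) (psi0 rK) ∧
      ∀ (T : Over (Spec (CommRingCat.of K))) (g g' : T ⟶ Red.bc (spq k K) J),
        val0 (rK.homEquiv (g * g')) = val0 (rK.homEquiv g) * val0 (rK.homEquiv g') := by
  obtain ⟨k', _, _, _, r, hr⟩ := exists_repD hdim hJ.coarse
  let i : k' →ₐ[k] K := IsAlgClosed.lift
  have ha : Spec.map (CommRingCat.ofHom i.toRingHom) ≫ spq k k' = spq k K := by
    rw [← Spec.map_comp]
    exact congrArg (fun g => Spec.map (CommRingCat.ofHom g)) i.comp_algebraMap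
  let rK := repK _ (spq k k') (spq k K) _ ha 0 σK hσK r
  have hmul := val0_repK_mul _ (spq k k') (spq k K) _ ha σK hσK r hr hJ
  refine ⟨rK, fun T E h E' hcl => phi0_repK _ (spq k k') (spq k K) _ ha 0 σK hσK r hr h hcl, ?_, hmul⟩
  obtain ⟨hc, -⟩ := isJacobian_psi0 (k := K) rK
  refine ⟨hc, ?_⟩
  intro T hT L M N hL hM hN e
  refine rK.homEquiv.injective (val0_injective ?_)
  rw [hmul]
  show val0 (rK.homEquiv (phi0 rK T (PicF.cl N))) =
    val0 (rK.homEquiv (phi0 rK T (PicF.cl L))) * val0 (rK.homEquiv (phi0 rK T (PicF.cl M)))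
  erw [val0_phi0_cl rK hL, val0_phi0_cl rK hM, val0_phi0_cl rK hN]
  refine Eq.trans ?_ (map_mul (rhoHom (bcf (C ↘ Spec (CommRingCat.of k)) (spq k K)) σK hσK T) _ _)
  refine congrArg (rho _ σK hσK) (ext_val ?_)
  obtain ⟨e⟩ := e
  rw [Subgroup.coe_mul, Units.val_mul, toPc_val, toPc_val, toPc_val]
  exact (H23.PicMul.cl_eq_iff.2 ⟨e⟩).trans (H23.PicMul.cl_tensor _ _)

end Exists

end Groth.Agent.PicDegField
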