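import Groth.Agent.PicDegField.Equiv
import Groth.Agent.GrpFieldLib.QuotTower
import Groth.Agent.PicRep.Jac
import Groth.Agent.CurveBC.Main

/-!
# The moduli scheme of classes of degree `d`, without a rational point
-/

set_option autoImplicit false
set_option maxHeartbeats 1600000
set_option linter.style.haveILetI false
set_option linter.unusedSectionVars false
set_option backward.isDefEq.respectTransparency false
set_option backward.isDefEq.respectTransparency.types false

universe u

open CategoryTheory CategoryTheory.Limits AlgebraicGeometry TopologicalSpace Opposite MonoidalCategory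
  CartesianMonoidalCategory MonObj

noncomputable section

namespace Groth.Agent.PicDegField

open Groth.Agent Groth.Agent.PicRep Groth.Agent.AlbCurve
open Groth.Agent.JacVarLib (Pc pullPc pullPc_val pullPc_comp ext_val out cl_out isInvertible_out)
open scoped Groth.Agent.H23.PicMul

attribute [local instance] GenusOneX.fibreOver GenusOneX.flat_of_family GenusOneX.lfp_of_family

section Base

variable {X S S' : Scheme.{u}} (f : X ⟶ S) [IsProper f] [SmoothOfRelativeDimension 1 f] [GeometricallyConnected f]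
  (q : S' ⟶ S) (d : ℤ)

/-- The presheaf represented by the moduli scheme. -/
abbrev pD : (Over S)ᵒᵖ ⥤ Type u := plus q (gD f d)

variable (σ' : S' ⟶ pullback f q) (hσ' : σ' ≫ bcf f q = 𝟙 S')

/-- Over the cover the presheaf is the rigidified functor. -/
def plusR0 (T : Over S') : (pD f q d).obj (op ((Over.map q).obj T)) ≃ (funct0 (bcf f q) σ' hσ').obj (op T) :=
  (plusEquiv q (gD f d) ((Over.map q).obj T) T.hom rfl).symm.trans
    (Equiv.ofBijective _ (toR0_bijective f q σ' hσ' d T))

theorem plusR0_toPlus {T : Over S'} (x : (gD f d).obj (op ((Over.map q).obj T))) :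
    plusR0 f q d σ' hσ' T (toPlus q (gD f d) _ x) = toR0 f q σ' hσ' d T x :=
  congrArg (toR0 f q σ' hσ' d T) ((plusEquiv q (gD f d) ((Over.map q).obj T) T.hom rfl).symm_apply_apply x)

theorem plusR0_nat {T T' : Over S'} (g : T' ⟶ T) (x : (pD f q d).obj (op ((Over.map q).obj T))) :
    plusR0 f q d σ' hσ' T' ((pD f q d).map ((Over.map q).map g).op x) =
      (funct0 (bcf f q) σ' hσ').map g.op (plusR0 f q d σ' hσ' T x) := by
  obtain ⟨z, rfl⟩ := (plusEquiv q (gD f d) ((Over.map q).obj T) T.hom rfl).surjective x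
  show plusR0 f q d σ' hσ' T' ((pD f q d).map ((Over.map q).map g).op (toPlus q (gD f d) _ z)) =
    (funct0 (bcf f q) σ' hσ').map g.op (plusR0 f q d σ' hσ' T (toPlus q (gD f d) _ z))
  rw [toPlus_nat, plusR0_toPlus, plusR0_toPlus, toR0_nat]

include hσ' in
/-- A representing scheme over the cover descends. -/
theorem exists_rep {A : Over S'} (r' : (funct0 (bcf f q) σ' hσ').RepresentableBy A) (hq : Mor2.IsFinLocFree q)
    (hAF : ∀ (s : S) (m : ℕ) (x : Fin m → A.left), (∀ k, (A.hom ≫ q) (x k) = s) →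
      ∃ U : A.left.Opens, IsAffineOpen U ∧ ∀ k, x k ∈ U) :
    ∃ J : Over S, Nonempty ((pD f q d).RepresentableBy J) := by
  let e : (pD f q d).obj (op ((Over.map q).obj A)) := (plusR0 f q d σ' hσ' A).symm (r'.homEquiv (𝟙 A))
  refine DescRep.exists_representableBy q (pD f q d) A e (fun T x => ?_)
    (fun T x h => existsUnique_plus q (gD f d) T x h) hq hAF
  have key : ∀ g : T ⟶ A, plusR0 f q d σ' hσ' T ((pD f q d).map ((Over.map q).map g).op e) = r'.homEquiv g :=
    fun g => by rw [plusR0_nat, Equiv.apply_symm_apply, ← r'.homEquiv_eq]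
  refine ⟨r'.homEquiv.symm (plusR0 f q d σ' hσ' T x), (plusR0 f q d σ' hσ' T).injective ?_, fun g hg => ?_⟩
  · rw [key, Equiv.apply_symm_apply]
  · rw [Equiv.eq_symm_apply, ← key, hg]

variable {f q d} {J : Over S} (r : (pD f q d).RepresentableBy J)

/-- The classifying map. -/
def psiD : (ModFun.PicDeg f d).Hom ⊤ J where
  app T E _ h := r.homEquiv.symm (toPlus q (gD f d) T (mkD f d _ (hasDeg_of_ok f h)))
  natural {T T'} g E _ _ hE hE' := by
    refine r.homEquiv.injective ?_
    rw [r.homEquiv_comp, Equiv.apply_symm_apply, Equiv.apply_symm_apply, toPlus_nat, map_mkD]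
    exact congrArg _ (mkD_congr f (cls_pull f g (invertible_of_okD f hE)))
  resp {T} E E' _ hE hE' h := by
    obtain ⟨m, hm⟩ := cls_of_r f (invertible_of_okD f hE) (invertible_of_okD f hE') h
    exact congrArg r.homEquiv.symm (congrArg _ ((mkD_eq f).2 ⟨m, hm⟩))

theorem homEquiv_psiD {T : Over S} (E : (PicF.XT f T).Modules) (hT : (⊤ : ObjectProperty (Over S)) T)
    (h : (ModFun.PicDeg f d).ok T E) :
    r.homEquiv ((psiD r).app T E hT h) = toPlus q (gD f d) T (mkD f d _ (hasDeg_of_ok f h)) :=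
  Equiv.apply_symm_apply _ _

theorem homEquiv_pr (r : (pD f q d).RepresentableBy J) :
    r.homEquiv (DescRep.pr q J) = toPlus q (gD f d) _ (r.homEquiv (𝟙 J)).1 := by
  rw [r.homEquiv_eq, map_pr]

/-- **The classifying map is a best approximation.** -/
theorem bestApproxD [Flat q] [Surjective q] [QuasiCompact q] :
    ModFun.IsBestApprox ⊤ (ModFun.PicDeg f d) J (psiD r) := by
  intro N ψ
  obtain ⟨v, hv, hvξ⟩ := exists_mkD f (r.homEquiv (𝟙 J)).1
  let E₀ := out v
  have hE₀ : (ModFun.PicDeg f d).ok ((DescRep.B q).obj J) E₀ := ok_out f hv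
  let φ₀ : (DescRep.B q).obj J ⟶ N := ψ.app _ E₀ trivial hE₀
  have hclass : ∀ {T : Over S} (E E' : (PicF.XT f T).Modules) (hE : (ModFun.PicDeg f d).ok T E)
      (hE' : (ModFun.PicDeg f d).ok T E'),
      mkD f d _ (hasDeg_of_ok f hE) = mkD f d _ (hasDeg_of_ok f hE') →
        ψ.app T E trivial hE = ψ.app T E' trivial hE' := fun E E' hE hE' h => by
    obtain ⟨m, hm⟩ := (mkD_eq f).1 h
    exact ψ.resp E E' trivial hE hE' (r_of_cls f _ _ m hm)
  have hmk₀ : mkD f d _ (hasDeg_of_ok f hE₀) = mkD f d v hv := mkD_congr f (cls_out f v)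
  have hpull : ∀ {T : Over S} (g : T ⟶ (DescRep.B q).obj J),
      mkD f d _ (hasDeg_of_ok f (ok_pullD f g hE₀)) = (gD f d).map g.op (r.homEquiv (𝟙 J)).1 := fun g => by
    rw [← hvξ, ← hmk₀, map_mkD]
    exact mkD_congr f (cls_pull f g _)
  let p := DescRep.pr q J
  haveI : Flat p.left := MorphismProperty.pullback_fst (P := @Flat) J.hom q ‹Flat q›
  haveI : Surjective p.left := MorphismProperty.pullback_fst (P := @Surjective) J.hom q ‹Surjective q›
  haveI : QuasiCompact p.left := MorphismProperty.pullback_fst (P := @QuasiCompact) J.hom q ‹QuasiCompact q›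
  have hcomp : ∀ {T : Over S} (a a' : T ⟶ (DescRep.B q).obj J), a ≫ p = a' ≫ p → a ≫ φ₀ = a' ≫ φ₀ := by
    intro T a a' h
    have h' : a.left ≫ pullback.fst J.hom q = a'.left ≫ pullback.fst J.hom q := congrArg (fun m => m.left) h
    let l : T ⟶ (DescRep.B (DescRep.q₂ q)).obj J :=
      Over.homMk (pullback.lift (a.left ≫ pullback.fst J.hom q)
        (pullback.lift (a.left ≫ pullback.snd J.hom q) (a'.left ≫ pullback.snd J.hom q) (by
          rw [Category.assoc, Category.assoc, ← pullback.condition, ← Category.assoc, ← Category.assoc, h']))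
        (by rw [DescRep.q₂, pullback.lift_fst_assoc, Category.assoc, Category.assoc, pullback.condition]))
        (by
          rw [← Over.w a]
          simp [DescRep.B, DescRep.q₂])
    have h1 : l ≫ DescRep.π₁ q J = a :=
      Over.OverMorphism.ext (pullback.hom_ext (by simp [l, DescRep.π₁]) (by simp [l, DescRep.π₁]))
    have h2 : l ≫ DescRep.π₂ q J = a' :=
      Over.OverMorphism.ext (pullback.hom_ext (by simp [l, DescRep.π₂, h']) (by simp [l, DescRep.π₂]))
    refine (ψ.natural a E₀ trivial trivial hE₀ (ok_pullD f a hE₀)).symm.trans ?_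
    refine Eq.trans ?_ (ψ.natural a' E₀ trivial trivial hE₀ (ok_pullD f a' hE₀))
    refine hclass _ _ _ _ ?_
    rw [hpull, hpull, ← h1, ← h2, ← DescRep.map_map, ← DescRep.map_map, (r.homEquiv (𝟙 J)).2]
  obtain ⟨h₀, hh₀⟩ := GrpFieldLib.QuotTower.exists_desc p φ₀ hcomp
  have hepi : ∀ {T : Over S} {a b : T ⟶ N}, DescRep.pr q T ≫ a = DescRep.pr q T ≫ b → a = b := by
    intro T a b h
    haveI : Flat (DescRep.pr q T).left := MorphismProperty.pullback_fst (P := @Flat) T.hom q ‹Flat q›
    haveI : Surjective (DescRep.pr q T).left :=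
      MorphismProperty.pullback_fst (P := @Surjective) T.hom q ‹Surjective q›
    haveI : Epi (DescRep.pr q T).left := Flat.epi_of_flat_of_surjective _
    exact Over.OverMorphism.ext ((cancel_epi (DescRep.pr q T).left).1 (congrArg (fun m => m.left) h))
  refine ⟨h₀, fun T E hT hE => ?_, fun h hh => ?_⟩
  · let x := (psiD r).app T E hT hE
    refine hepi (Eq.symm ?_)
    rw [← Category.assoc, ← DescRep.pr_nat, Category.assoc, hh₀]
    refine (ψ.natural ((DescRep.B q).map x) E₀ trivial trivial hE₀ (ok_pullD f _ hE₀)).symm.trans ?_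
    refine Eq.trans ?_ (ψ.natural _ E trivial trivial hE (ok_pullD f _ hE))
    symm
    refine hclass _ _ _ _ ?_
    rw [hpull]
    have hx := congrArg Subtype.val ((r.homEquiv_eq x).symm.trans (homEquiv_psiD r E hT hE))
    refine Eq.trans ?_ hx.symm
    refine Eq.trans ?_ (map_mkD f (DescRep.pr q T) _ (hasDeg_of_ok f hE)).symm
    exact mkD_congr f (cls_pull f _ _)
  · refine hepi ?_
    rw [hh₀]
    have hp : (psiD r).app _ E₀ trivial hE₀ = p := by
      refine r.homEquiv.injective ?_
      rw [homEquiv_psiD, homEquiv_pr, hmk₀, hvξ]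
    show p ≫ h = φ₀
    rw [← hp]
    exact (hh _ E₀ trivial hE₀).symm

theorem geomBijD
    (hlift : ∀ (Ω : Type u) [Field Ω] [IsAlgClosed Ω] (t : Spec (CommRingCat.of Ω) ⟶ S), ∃ a, a ≫ q = t) :
    ModFun.GeomBij (ModFun.PicDeg f d) J (psiD r) := by
  intro Ω _ _ t hP
  obtain ⟨a, ha⟩ := hlift Ω t
  refine ⟨fun g => ?_, fun E E' hE hE' h => ?_⟩
  · obtain ⟨z, hz⟩ := (plusEquiv q (gD f d) (Over.mk t) a ha).surjective (r.homEquiv g)
    obtain ⟨v, hv, rfl⟩ := exists_mkD f z
    refine ⟨out v, ok_out f hv, r.homEquiv.injective ?_⟩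
    rw [homEquiv_psiD, ← hz]
    exact congrArg (toPlus q (gD f d) _) (mkD_congr f (cls_out f v))
  · have h' := congrArg r.homEquiv h
    rw [homEquiv_psiD, homEquiv_psiD] at h'
    obtain ⟨m, hm⟩ := (mkD_eq f).1 (toPlus_injective q (gD f d) _ a ha h')
    exact r_of_cls f _ _ m hm

/-- Any coarse moduli scheme represents the presheaf. -/
theorem exists_rep_of_coarse (r : (pD f q d).RepresentableBy J) [Flat q] [Surjective q] [QuasiCompact q]
    {J₁ : Over S}
    {ψ : (ModFun.PicDeg f d).Hom ⊤ J₁} (hJ : ModFun.IsBestApprox ⊤ (ModFun.PicDeg f d) J₁ ψ) :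
    ∃ r₁ : (pD f q d).RepresentableBy J₁,
      ∀ (T : Over S) (E : (PicF.XT f T).Modules) (hT : (⊤ : ObjectProperty (Over S)) T)
        (h : (ModFun.PicDeg f d).ok T E),
        r₁.homEquiv (ψ.app T E hT h) = toPlus q (gD f d) T (mkD f d _ (hasDeg_of_ok f h)) := by
  obtain ⟨a, ha, -⟩ := bestApproxD r J₁ ψ
  obtain ⟨b, hb, -⟩ := hJ J (psiD r)
  have h1 : a ≫ b = 𝟙 J := (bestApproxD r J (psiD r)).unique
    (fun T E hT hE => by rw [← Category.assoc, ← ha T E hT hE, ← hb T E hT hE])
    (fun T E hT hE => (Category.comp_id _).symm)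
  have h2 : b ≫ a = 𝟙 J₁ := (hJ J₁ ψ).unique
    (fun T E hT hE => by rw [← Category.assoc, ← hb T E hT hE, ← ha T E hT hE])
    (fun T E hT hE => (Category.comp_id _).symm)
  refine ⟨{
    homEquiv := fun {T} => (⟨fun g => g ≫ b, fun g => g ≫ a, fun g => by simp [h2], fun g => by simp [h1]⟩ :
      (T ⟶ J₁) ≃ (T ⟶ J)).trans r.homEquiv
    homEquiv_comp := fun g g' => by
      show r.homEquiv ((g ≫ g') ≫ b) = _
      rw [Category.assoc, r.homEquiv_comp]
      rfl }, fun T E hT h => ?_⟩
  show r.homEquiv (ψ.app T E hT h ≫ b) = _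
  rw [← hb T E hT h]
  exact homEquiv_psiD r E hT h

end Base

end Groth.Agent.PicDegField
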