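import Groth.Agent.PicDegField.Theta
import Groth.Agent.EtFound.Descent
import Groth.Agent.AlbCurve.ThetaAmple

/-!
# A point over the algebraic closure, and descent of the geometry of the moduli scheme
-/

set_option autoImplicit false
set_option maxHeartbeats 1600000
set_option linter.style.haveILetI false
set_option linter.unusedSectionVars false
set_option backward.isDefEq.respectTransparency false
set_option backward.isDefEq.respectTransparency.types false

universe u

open CategoryTheory CategoryTheory.Limits AlgebraicGeometry TopologicalSpace Opposite MonoidalCategory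
  CartesianMonoidalCategory MonObj

noncomputable section

namespace Groth.Agent.PicDegField

open Groth.Agent Groth.Agent.PicRep Groth.Agent.AlbCurve Groth.Agent.JacBC
open scoped Groth.Agent.H23.PicMul

attribute [local instance] Jacobian.curveOver GenusOneX.fibreOver GenusOneX.flat_of_family GenusOneX.lfp_of_family
attribute [local instance] overCK

variable {k : Type u} [Field k] {C : Scheme.{u}} [C.Over (Spec (CommRingCat.of k))]
  [IsProper (C ↘ Spec (CommRingCat.of k))] [SmoothOfRelativeDimension 1 (C ↘ Spec (CommRingCat.of k))]
  [GeometricallyConnected (C ↘ Spec (CommRingCat.of k))]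

/-- The curve has a point over an algebraically closed field. -/
theorem exists_sect (hdim : topologicalKrullDim C = 1) (K : Type u) [Field K] [Algebra k K] [IsAlgClosed K] :
    ∃ σK : Spec (CommRingCat.of K) ⟶ CK k K C, σK ≫ bcf (C ↘ Spec (CommRingCat.of k)) (spq k K) = 𝟙 _ := by
  haveI : Smooth (C ↘ Spec (CommRingCat.of k)) := SmoothOfRelativeDimension.smooth (n := 1) _
  haveI : IsIntegral (CK k K C) := CurveStable.isIntegral_of_geometricallyConnected (k := K)
  haveI := dim_CK k K hdim (C := C)
  obtain ⟨x₀, -⟩ := JacVarLib.exists_pt_mem K (U := (Set.univ : Set (CK k K C))) isOpen_univ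
    ⟨genericPoint (CK k K C), trivial⟩
  obtain ⟨P₀, -⟩ := JacVarLib.exists_pt K x₀
  exact ⟨P₀.left, Over.w P₀⟩

variable {K : Type u} [Field K] [Algebra k K] [IsAlgClosed K] {σK : Spec (CommRingCat.of K) ⟶ CK k K C}
  {hσK : σK ≫ bcf (C ↘ Spec (CommRingCat.of k)) (spq k K) = 𝟙 _}
  {J : Over (Spec (CommRingCat.of k))}

/-- The moduli scheme is proper, smooth and geometrically integral over the small field. -/
theorem geometry_of_repK (hdim : topologicalKrullDim C = 1)
    (rK : (funct0 (bcf (C ↘ Spec (CommRingCat.of k)) (spq k K)) σK hσK).RepresentableBy (Red.bc (spq k K) J)) :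
    IsProper J.hom ∧ GeometricallyIntegral J.hom ∧
      topologicalKrullDim (Red.bc (spq k K) J).left = (Curv2.genus k C : WithBot ℕ∞) := by
  let q := spq k K
  haveI : Smooth (C ↘ Spec (CommRingCat.of k)) := SmoothOfRelativeDimension.smooth (n := 1) _
  haveI : IsIntegral (CK k K C) := CurveStable.isIntegral_of_geometricallyConnected (k := K)
  letI := commGrpObj rK
  obtain ⟨-, hp, -, -, hgi, hd⟩ := exists_rep_of_isJacobian hσK (dim_CK k K hdim (C := C)) (isJacobian_psi0 rK)
  haveI := hp; haveI := hgi
  haveI : Flat q := GrpSchLib.flat_spec_map_field _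
  haveI : Surjective q := GrpSchLib.surjective_spec_map_field _
  have := EtFound.fpqc_isProper.{u}
  haveI : ObjectProperty.IsClosedUnderIsomorphisms (fun X : Scheme.{u} => IsIntegral X) :=
    ⟨fun {X Y} e hX => by
      haveI : IsIntegral X := hX
      haveI : Nonempty Y := ⟨e.hom.base (Classical.arbitrary X)⟩
      exact isIntegral_of_isOpenImmersion e.inv⟩
  refine ⟨?_, ⟨FBaseLib.geometrically_of_surjective (P := fun X : Scheme.{u} => IsIntegral X)
    (fun {Z W} w _ _ hz => by
      haveI : IsIntegral Z := hz
      haveI := FBaseLib.isReduced_of_flat_surjective w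
      haveI := FBaseLib.irreducibleSpace_of_surjective w
      exact isIntegral_of_irreducibleSpace_of_isReduced W) J.hom q hgi.geometrically_isIntegral⟩, ?_⟩
  · exact MorphismProperty.of_pullback_snd_of_descendsAlong (P := @IsProper)
      (Q := (@Surjective ⊓ @Flat ⊓ @QuasiCompact : MorphismProperty Scheme.{u})) (g := q) (f := J.hom)
      ⟨⟨inferInstance, inferInstance⟩, inferInstance⟩ hp
  · rw [hd, genus_CK k K]

end Groth.Agent.PicDegField
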