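import Groth.Agent.PicDegField.Setup

/-!
# The Abel map of the symmetric power in degree `n`, without a rational point
-/

set_option autoImplicit false
set_option maxHeartbeats 1600000
set_option linter.style.haveILetI false
set_option linter.unusedSectionVars false
set_option backward.isDefEq.respectTransparency false
set_option backward.isDefEq.respectTransparency.types false

universe u

open CategoryTheory CategoryTheory.Limits AlgebraicGeometry TopologicalSpace Opposite MonoidalCategory
  CartesianMonoidalCategory MonObj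

noncomputable section

namespace Groth.Agent.PicDegField

open Groth.Agent Groth.Agent.PicRep Groth.Agent.AlbCurve Groth.Agent.JacBC
open Groth.Agent.JacVarLib (Pc pullPc pullPc_val pullPc_comp ext_val out cl_out isInvertible_out)
open scoped Groth.Agent.H23.PicMul

attribute [local instance] Jacobian.curveOver GenusOneX.fibreOver GenusOneX.flat_of_family GenusOneX.lfp_of_family

section Gen

variable {X S : Scheme.{u}} {f : X ⟶ S} [IsProper f] [SmoothOfRelativeDimension 1 f] [GeometricallyConnected f]

theorem graph_eq {T : Over S} (P : T ⟶ Over.mk f) :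
    GenusOneX.sct f P = (pullback.lift P.left (𝟙 T.left) ((Over.w P).trans (Category.id_comp T.hom).symm) :
      T.left ⟶ PicF.XT f T) := rfl

/-- The class of a module inverse to the product of the graph ideals. -/
theorem cls_eq_divC {T : Over S} {n : ℕ} (x : Fin n → (T ⟶ Over.mk f)) {F : (PicF.XT f T).Modules}
    (hF : PicF.IsInvertible F)
    (h : Nonempty (CohB1.tensorMod F (FGA.tensorList (List.ofFn fun i => ClSub.idealMod (GenusOneX.sct f (x i)).ker)) ≅
      Coh.structureModule _)) :
    cls f F hF = divC x := by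
  have h1 : PicF.cl (FGA.tensorList (List.ofFn fun i => ClSub.idealMod (GenusOneX.sct f (x i)).ker)) =
      ((∏ i, ptPc (x i) : Pc (PicF.XT f T))).1.val := by
    rw [IntSym.cl_tensorList, List.map_ofFn, List.prod_ofFn, SubmonoidClass.coe_finsetProd, Units.coe_prod]
    exact Finset.prod_congr rfl fun i _ => (toPc_val _ _).symm
  obtain ⟨e⟩ := h
  have h2 := H23.PicMul.cl_eq_iff.2 ⟨e⟩
  rw [H23.PicMul.cl_tensor, h1, ← cls_val f F hF, ← Units.val_mul, ← Subgroup.coe_mul, ← H23.PicMul.one_def] at h2
  refine eq_inv_of_mul_eq_one_left (ext_val ?_)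
  exact h2

end Gen

variable (k : Type u) [Field k] {C : Scheme.{u}} [C.Over (Spec (CommRingCat.of k))]
  [IsProper (C ↘ Spec (CommRingCat.of k))] [SmoothOfRelativeDimension 1 (C ↘ Spec (CommRingCat.of k))]
  [GeometricallyConnected (C ↘ Spec (CommRingCat.of k))]

theorem genus_XT {Ω : Type u} [Field Ω] (τ : Spec (CommRingCat.of Ω) ⟶ Spec (CommRingCat.of k)) :
    Curv2.genus Ω (PicF.XT (C ↘ Spec (CommRingCat.of k)) (Over.mk τ)) = Curv2.genus k C := by
  let f := C ↘ Spec (CommRingCat.of k)
  let g : PicF.XT f (Over.mk τ) ⟶ C := pullback.fst f τ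
  haveI : QuasiSeparatedSpace C := quasiSeparatedSpace_of_quasiSeparated f
  haveI := QuasiCompact.compactSpace_of_compactSpace f
  letI : Algebra k Ω := (Spec.preimage τ).hom.toAlgebra
  have hpb : IsPullback g (PicF.XT f (Over.mk τ) ↘ Spec (CommRingCat.of Ω)) f
      (Spec.map (CommRingCat.ofHom (algebraMap k Ω))) := by
    rw [show Spec.map (CommRingCat.ofHom (algebraMap k Ω)) = τ from Spec.map_preimage _]
    exact IsPullback.of_hasPullback f τ
  exact CurveBC.genus_eq k Ω g hpb

/-- Over an algebraically closed field a class of degree at least the genus is effective. -/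
theorem exists_divC {Ω : Type u} [Field Ω] [IsAlgClosed Ω] (τ : Spec (CommRingCat.of Ω) ⟶ Spec (CommRingCat.of k))
    [IsIntegral C] {n : ℕ} (hn : Curv2.genus k C ≤ n)
    {v : Pc (PicF.XT (C ↘ Spec (CommRingCat.of k)) (Over.mk τ))}
    (hv : HasDeg (C ↘ Spec (CommRingCat.of k)) n (Over.mk τ) v) :
    ∃ P : Fin n → (Over.mk τ ⟶ Over.mk (C ↘ Spec (CommRingCat.of k))), divC P = v := by
  let f := C ↘ Spec (CommRingCat.of k)
  haveI : Smooth f := SmoothOfRelativeDimension.smooth (n := 1) _
  have hdimC := Jacobian.curve_dim f τ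
  haveI := CurveCohLib.isNoetherian_of_proper (k := Ω) (X := PicF.XT f (Over.mk τ))
  haveI : GeometricallyConnected (PicF.XT f (Over.mk τ) ↘ Spec (CommRingCat.of Ω)) :=
    inferInstanceAs (GeometricallyConnected (pullback.snd f τ))
  haveI : IsIntegral (PicF.XT f (Over.mk τ)) := CurveStable.isIntegral_of_geometricallyConnected (k := Ω)
  have hdv : JacVarLib.dg Ω v = n := by
    rw [← deg_eq_dg f τ _ (IsLocalRing.closedPoint Ω)]
    exact hv _
  have h0 : 0 < JacVarLib.hz Ω v := by
    have hrr := JacVarLib.rr Ω hdimC v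
    rw [hdv, genus_XT k τ] at hrr
    omega
  obtain ⟨z, hz'⟩ := JacVarLib.eff_of_hz_pos Ω hdimC hdv h0
  choose P hP using fun i => Jacobian.exists_point_of_closed f τ (z i).2
  refine ⟨P, ?_⟩
  have hP' : ∀ i, ptPc (P i) = (JacVarLib.O Ω hdimC (z i))⁻¹ := fun i => by
    refine ext_val ?_
    rw [JacVarLib.O_inv_val, ptPc_val]
    exact hP i
  rw [divC, Finset.prod_congr rfl fun i _ => hP' i, Finset.prod_inv_distrib, inv_inv, hz']

end Groth.Agent.PicDegField
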