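import Groth.Agent.PicDegField.SymAbel
import Groth.Agent.AlbCurve.Main
import Groth.Agent.AlbCurve.ThetaMult
import Groth.Agent.SGA1Q.Free
import Groth.Agent.SGA1Q.Properties

/-!
# The Abel map of the symmetric power is a monomorphism where the divisor can be completed
-/

set_option autoImplicit false
set_option maxHeartbeats 1600000
set_option linter.style.haveILetI false
set_option linter.unusedSectionVars false
set_option backward.isDefEq.respectTransparency false
set_option backward.isDefEq.respectTransparency.types false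

universe u

open CategoryTheory CategoryTheory.Limits AlgebraicGeometry TopologicalSpace Opposite MonoidalCategory
  CartesianMonoidalCategory MonObj

noncomputable section

namespace Groth.Agent.PicDegField

open Groth.Agent Groth.Agent.PicRep Groth.Agent.AlbCurve Groth.Agent.JacBC
open Groth.Agent.GenusOneX (sct sct_proj)
open Groth.Agent.JacVarLib (Pc pullPc pullPc_val pullPc_comp ext_val out cl_out isInvertible_out)
open scoped Groth.Agent.H23.PicMul

attribute [local instance] Jacobian.curveOver GenusOneX.fibreOver GenusOneX.flat_of_family GenusOneX.lfp_of_family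

section Pow

variable {X S : Scheme.{u}} (f : X ⟶ S)

/-- The power of a family. -/
abbrev pw (n : ℕ) : Over S := Over.mk (WidePullback.base fun (_ : Fin n) => f)

/-- The projections of the power. -/
def pwπ (n : ℕ) (i : Fin n) : pw f n ⟶ Over.mk f :=
  Over.homMk (WidePullback.π (fun (_ : Fin n) => f) i) (WidePullback.π_arrow _ i)

/-- A tuple of points as a point of the power. -/
def pwLift {n : ℕ} {T : Over S} (x : Fin n → (T ⟶ Over.mk f)) : T ⟶ pw f n :=
  Over.homMk (WidePullback.lift T.hom (fun i => (x i).left) fun i => Over.w (x i))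
    (WidePullback.lift_base _ _ _ _)

theorem pwLift_π {n : ℕ} {T : Over S} (x : Fin n → (T ⟶ Over.mk f)) (i : Fin n) :
    pwLift f x ≫ pwπ f n i = x i :=
  Over.OverMorphism.ext (WidePullback.lift_π _ _ _ _ i)

theorem pw_hom_ext {n : ℕ} {T : Over S} {g g' : T ⟶ pw f n} (h : ∀ i, g ≫ pwπ f n i = g' ≫ pwπ f n i) :
    g = g' :=
  Over.OverMorphism.ext (WidePullback.hom_ext _ _ _ (fun i => congrArg CommaMorphism.left (h i))
    ((Over.w g).trans (Over.w g').symm))

variable {f} {n m N : ℕ} (hN : n + m = N + 1)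

/-- Concatenation of tuples. -/
def app {T : Over S} (x : Fin n → (T ⟶ Over.mk f)) (z : Fin m → (T ⟶ Over.mk f)) :
    Fin (N + 1) → (T ⟶ Over.mk f) :=
  fun i => Fin.append x z (Fin.cast hN.symm i)

theorem app_left {T : Over S} (x : Fin n → (T ⟶ Over.mk f)) (z : Fin m → (T ⟶ Over.mk f)) (i : Fin n) :
    app hN x z (Fin.cast hN (Fin.castAdd m i)) = x i := Fin.append_left x z i

theorem app_right {T : Over S} (x : Fin n → (T ⟶ Over.mk f)) (z : Fin m → (T ⟶ Over.mk f)) (l : Fin m) :
    app hN x z (Fin.cast hN (Fin.natAdd n l)) = z l := Fin.append_right x z l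

theorem app_eta {T : Over S} (a : Fin (N + 1) → (T ⟶ Over.mk f)) :
    app hN (fun i => a (Fin.cast hN (Fin.castAdd m i))) (fun l => a (Fin.cast hN (Fin.natAdd n l))) = a := by
  funext i
  obtain ⟨j, rfl⟩ : ∃ j, i = Fin.cast hN j := ⟨Fin.cast hN.symm i, by simp⟩
  induction j using Fin.addCases with
  | left a' => rw [app_left]
  | right a' => rw [app_right]

theorem comp_app {T T' : Over S} (g : T' ⟶ T) (x : Fin n → (T ⟶ Over.mk f)) (z : Fin m → (T ⟶ Over.mk f)) :
    (fun i => g ≫ app hN x z i) = app hN (fun i => g ≫ x i) (fun l => g ≫ z l) := by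
  funext i
  obtain ⟨j, rfl⟩ : ∃ j, i = Fin.cast hN j := ⟨Fin.cast hN.symm i, by simp⟩
  induction j using Fin.addCases with
  | left a => rw [app_left, app_left]
  | right a => rw [app_right, app_right]

theorem divC_app [IsProper f] [SmoothOfRelativeDimension 1 f] [GeometricallyConnected f] {T : Over S}
    (x : Fin n → (T ⟶ Over.mk f)) (z : Fin m → (T ⟶ Over.mk f)) :
    divC (app hN x z) = divC x * divC z := by
  rw [divC, divC, divC, ← mul_inv]
  refine congrArg (·⁻¹) ?_
  have h : ∏ i : Fin (N + 1), ptPc (app hN x z i) = ∏ j : Fin (n + m), ptPc (Fin.append x z j) :=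
    Fintype.prod_equiv (finCongr hN.symm) _ _ fun i => rfl
  rw [h, Fin.prod_univ_add]
  simp only [Fin.append_left, Fin.append_right]

theorem distinct_left {T : Over S} {x : Fin n → (T ⟶ Over.mk f)} {z : Fin m → (T ⟶ Over.mk f)} {t : T.left}
    (h : Distinct (app hN x z) t) : Distinct x t := fun i j hij => by
  have := h (Fin.cast hN (Fin.castAdd m i)) (Fin.cast hN (Fin.castAdd m j))
    ((Fin.cast_injective hN).ne ((Fin.castAdd_injective n m).ne hij))
  rwa [app_left, app_left] at this

end Pow

variable {k : Type u} [Field k] {C : Scheme.{u}} [C.Over (Spec (CommRingCat.of k))]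
  [IsProper (C ↘ Spec (CommRingCat.of k))] [SmoothOfRelativeDimension 1 (C ↘ Spec (CommRingCat.of k))]
  [GeometricallyConnected (C ↘ Spec (CommRingCat.of k))] [IsIntegral C]

/-- Over an algebraically closed field a tuple with the class of a good tuple of distinct points is distinct. -/
theorem distinct_of_cls {Ω : Type u} [Field Ω] [IsAlgClosed Ω] (τ : Spec (CommRingCat.of Ω) ⟶ Spec (CommRingCat.of k))
    {l : ℕ} {a b : Fin l → (Over.mk τ ⟶ Over.mk (C ↘ Spec (CommRingCat.of k)))}
    (hg : Good (PicF.XTproj (C ↘ Spec (CommRingCat.of k)) (Over.mk τ)) (divC a) (IsLocalRing.closedPoint Ω))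
    (hd : Distinct a (IsLocalRing.closedPoint Ω)) (h : divC b = divC a) :
    Distinct b (IsLocalRing.closedPoint Ω) := by
  let f := C ↘ Spec (CommRingCat.of k)
  haveI : Smooth f := SmoothOfRelativeDimension.smooth (n := 1) _
  have hdimC := Jacobian.curve_dim f τ
  haveI := CurveCohLib.isNoetherian_of_proper (k := Ω) (X := PicF.XT f (Over.mk τ))
  haveI : GeometricallyConnected (PicF.XT f (Over.mk τ) ↘ Spec (CommRingCat.of Ω)) :=
    inferInstanceAs (GeometricallyConnected (pullback.snd f τ))
  haveI : IsIntegral (PicF.XT f (Over.mk τ)) := CurveStable.isIntegral_of_geometricallyConnected (k := Ω)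
  have hdiv : ∀ c : Fin l → (Over.mk τ ⟶ Over.mk f), divC c = ∏ i, JacVarLib.O Ω hdimC (ptOf τ (c i)) := fun c => by
    rw [divC, Finset.prod_congr rfl fun i _ => ptPc_eq_O τ (c i), Finset.prod_inv_distrib, inv_inv]
  obtain ⟨he, h1⟩ := (good_iff f τ _ (IsLocalRing.closedPoint Ω)).1 hg
  have hh : JacVarLib.hz Ω (divC a) = 1 := by
    have h2 := CurveRR.euler_eq_h0_sub_h1 Ω hdimC.le (CurveDeg.isCoh_of_isInvertible (isInvertible_out (divC a))).1
    rw [he, h1] at h2
    unfold JacVarLib.hz
    rw [Nat.cast_zero, sub_zero] at h2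
    exact_mod_cast h2.symm
  rw [hdiv] at hh
  rw [hdiv, hdiv] at h
  obtain ⟨e, hee⟩ := perm_of_eq Ω hdimC _ _ hh h.symm
  have hb : ∀ i, b i = a (e i) := fun i => Jacobian.point_ext f τ (congrArg Subtype.val (hee i))
  intro i j hij
  rw [hb i, hb j]
  exact hd (e i) (e j) (e.injective.ne hij)

variable {n m N : ℕ} (hN : n + m = N + 1)

/-- The tuple completed by a variable one. -/
def aa {T : Over (Spec (CommRingCat.of k))} (x : Fin n → (T ⟶ Over.mk (C ↘ Spec (CommRingCat.of k)))) :
    Fin (N + 1) → (T ⊗ pw (C ↘ Spec (CommRingCat.of k)) m ⟶ Over.mk (C ↘ Spec (CommRingCat.of k))) :=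
  app hN (fun i => fst T _ ≫ x i) (fun l => snd T _ ≫ pwπ (C ↘ Spec (CommRingCat.of k)) m l)

/-- The good completions. -/
def OO {T : Over (Spec (CommRingCat.of k))} (x : Fin n → (T ⟶ Over.mk (C ↘ Spec (CommRingCat.of k)))) :
    (T ⊗ pw (C ↘ Spec (CommRingCat.of k)) m).left.Opens :=
  goodLocus (PicF.XTproj (C ↘ Spec (CommRingCat.of k)) (T ⊗ pw (C ↘ Spec (CommRingCat.of k)) m)) (divC (aa hN x)) ⊓
    ⟨{w | Distinct (aa hN x) w}, isOpen_distinct _⟩

theorem flat_base : Flat (WidePullback.base fun (_ : Fin m) => (C ↘ Spec (CommRingCat.of k))) :=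
  MorLib.BF.flat_to_field (Field.toIsField k) _

theorem lfp_base : LocallyOfFinitePresentation (WidePullback.base fun (_ : Fin m) => (C ↘ Spec (CommRingCat.of k))) := by
  obtain ⟨W, ρ, pr, hWp, -, -, hWs, hlift, hext⟩ :=
    Jacobian.exists_power (C ↘ Spec (CommRingCat.of k)) (𝟙_ (Over (Spec (CommRingCat.of k)))) m
  let e : W ≅ pw (C ↘ Spec (CommRingCat.of k)) m :=
    { hom := pwLift _ pr
      inv := (hlift (pw (C ↘ Spec (CommRingCat.of k)) m) (toUnit _) (pwπ _ m)).choose
      hom_inv_id := hext _ _ _ (toUnit_unique _ _) fun i => by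
        rw [Category.assoc, (hlift (pw (C ↘ Spec (CommRingCat.of k)) m) (toUnit _) (pwπ _ m)).choose_spec.2 i,
          pwLift_π, Category.id_comp]
      inv_hom_id := pw_hom_ext _ fun i => by
        rw [Category.assoc, pwLift_π,
          (hlift (pw (C ↘ Spec (CommRingCat.of k)) m) (toUnit _) (pwπ _ m)).choose_spec.2 i, Category.id_comp] }
  haveI := hWs
  have hW : ρ.left = W.hom := (Category.comp_id _).symm.trans (Over.w ρ)
  haveI : Smooth W.hom := hW ▸ SmoothOfRelativeDimension.smooth (n := m) ρ.left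
  haveI : IsIso e.inv.left := ((Over.forget _).mapIso e.symm).isIso_hom
  rw [show (WidePullback.base fun (_ : Fin m) => (C ↘ Spec (CommRingCat.of k))) = e.inv.left ≫ W.hom from
    (Over.w e.inv).symm]
  infer_instance

theorem isOpenMap_fst (T : Over (Spec (CommRingCat.of k))) :
    IsOpenMap (fst T (pw (C ↘ Spec (CommRingCat.of k)) m)).left.base := by
  haveI := flat_base (k := k) (C := C) (m := m)
  haveI := lfp_base (k := k) (C := C) (m := m)
  let p : (T ⊗ pw (C ↘ Spec (CommRingCat.of k)) m).left ⟶ T.left :=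
    pullback.fst T.hom (WidePullback.base fun (_ : Fin m) => (C ↘ Spec (CommRingCat.of k)))
  haveI : Flat p := inferInstance
  haveI : LocallyOfFinitePresentation p := inferInstance
  exact p.isOpenMap

/-- The tuples with a good completion. -/
def GG {T : Over (Spec (CommRingCat.of k))} (x : Fin n → (T ⟶ Over.mk (C ↘ Spec (CommRingCat.of k)))) : T.left.Opens :=
  ⟨(fst T (pw (C ↘ Spec (CommRingCat.of k)) m)).left.base '' (OO hN x : Set _), isOpenMap_fst T _ (OO hN x).isOpen⟩

theorem comp_aa {T U : Over (Spec (CommRingCat.of k))} (x : Fin n → (T ⟶ Over.mk (C ↘ Spec (CommRingCat.of k))))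
    (g : U ⟶ T ⊗ pw (C ↘ Spec (CommRingCat.of k)) m) :
    (fun i => g ≫ aa hN x i) =
      app hN (fun i => (g ≫ fst T _) ≫ x i) (fun l => (g ≫ snd T _) ≫ pwπ (C ↘ Spec (CommRingCat.of k)) m l) := by
  rw [aa, comp_app]
  simp only [Category.assoc]

theorem mem_GG {T : Over (Spec (CommRingCat.of k))} (x : Fin n → (T ⟶ Over.mk (C ↘ Spec (CommRingCat.of k))))
    {Ω : Type u} [Field Ω] [IsAlgClosed Ω] {τ : Spec (CommRingCat.of Ω) ⟶ Spec (CommRingCat.of k)}
    (g : Over.mk τ ⟶ T) (z : Fin m → (Over.mk τ ⟶ Over.mk (C ↘ Spec (CommRingCat.of k))))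
    (hg : Good (PicF.XTproj (C ↘ Spec (CommRingCat.of k)) (Over.mk τ)) (divC (app hN (fun i => g ≫ x i) z))
      (IsLocalRing.closedPoint Ω))
    (hd : Distinct (app hN (fun i => g ≫ x i) z) (IsLocalRing.closedPoint Ω)) :
    g.left (IsLocalRing.closedPoint Ω) ∈ GG hN x := by
  let u : Over.mk τ ⟶ T ⊗ pw (C ↘ Spec (CommRingCat.of k)) m := lift g (pwLift _ z)
  have hu : (fun i => u ≫ aa hN x i) = app hN (fun i => g ≫ x i) z := by
    rw [comp_aa, lift_fst, lift_snd]
    simp only [pwLift_π]
  refine ⟨u.left (IsLocalRing.closedPoint Ω), ⟨?_, distinct_of_pull u (by rw [hu]; exact hd)⟩, ?_⟩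
  · show Good (PicF.XTproj (C ↘ Spec (CommRingCat.of k)) _) (divC (aa hN x)) _
    rw [← good_pull u, pull_divC, hu]
    exact hg
  · rw [← Scheme.Hom.comp_apply, ← Over.comp_left, lift_fst]

theorem distinct_of_mem_GG {T : Over (Spec (CommRingCat.of k))}
    {x : Fin n → (T ⟶ Over.mk (C ↘ Spec (CommRingCat.of k)))} {t : T.left} (ht : t ∈ GG hN x) : Distinct x t := by
  obtain ⟨o, ho, rfl⟩ := ht
  obtain ⟨Ω, _, _, τ, g, rfl⟩ := exists_geom (S := Spec (CommRingCat.of k)) (T := T ⊗ pw (C ↘ Spec (CommRingCat.of k)) m) o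
  rw [← Scheme.Hom.comp_apply, ← Over.comp_left]
  refine distinct_of_pull (g ≫ fst T _) ?_
  have h := distinct_pull g ho.2
  rw [comp_aa] at h
  exact distinct_left hN h

theorem GG_nonempty (hn : Curv2.genus k C = N + 1) :
    ((GG hN (pwπ (C ↘ Spec (CommRingCat.of k)) n) : (pw (C ↘ Spec (CommRingCat.of k)) n).left.Opens) :
      Set (pw (C ↘ Spec (CommRingCat.of k)) n).left).Nonempty := by
  let f := C ↘ Spec (CommRingCat.of k)
  haveI : Smooth f := SmoothOfRelativeDimension.smooth (n := 1) _
  have hdim : topologicalKrullDim C = 1 := by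
    haveI : SmoothOfRelativeDimension 1 (𝟙 C ≫ f) := by rw [Category.id_comp]; infer_instance
    exact SmoothCrit.eq_dim (k := k) f (𝟙 _) 1
  let Ω := AlgebraicClosure k
  let τ : Spec (CommRingCat.of Ω) ⟶ Spec (CommRingCat.of k) := Spec.map (CommRingCat.ofHom (algebraMap k Ω))
  obtain ⟨P, -⟩ := exists_distinct_tuple (C := C) τ 1
  obtain ⟨Q, hQg, hQd⟩ := exists_completion_geom hdim τ hn (P 0)
  let a : Fin (N + 1) → (Over.mk τ ⟶ Over.mk f) := Fin.cons (P 0) Q
  let g := pwLift f fun i => a (Fin.cast hN (Fin.castAdd m i))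
  refine ⟨_, mem_GG hN _ g (fun l => a (Fin.cast hN (Fin.natAdd n l))) ?_ ?_⟩
  · rw [show (fun i => g ≫ pwπ f n i) = fun i => a (Fin.cast hN (Fin.castAdd m i)) from funext fun i => pwLift_π f _ i,
      app_eta hN a]
    exact hQg
  · rw [show (fun i => g ≫ pwπ f n i) = fun i => a (Fin.cast hN (Fin.castAdd m i)) from funext fun i => pwLift_π f _ i,
      app_eta hN a]
    exact hQd

/-- Two tuples with the same class have the same image in the symmetric power. -/
theorem lift_comp_eq {T : Over (Spec (CommRingCat.of k))}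
    {x y : Fin n → (T ⟶ Over.mk (C ↘ Spec (CommRingCat.of k)))} (hx : ∀ t, t ∈ GG hN x) {μ' : Pc T.left}
    (hμ : divC y = divC x * pullPc (PicF.XTproj (C ↘ Spec (CommRingCat.of k)) T) μ') {Y : Scheme.{u}}
    (q : SymProd.fibPow (C ↘ Spec (CommRingCat.of k)) n ⟶ Y)
    (hinv : ∀ σ : Equiv.Perm (Fin n), SymProd.permHom (C ↘ Spec (CommRingCat.of k)) n σ ≫ q = q) :
    (pwLift _ x).left ≫ q = (pwLift _ y).left ≫ q := by
  classical
  let f := C ↘ Spec (CommRingCat.of k)
  let Wm := pw f m
  let O := OO hN x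
  let T' : Over (Spec (CommRingCat.of k)) := Over.mk (O.ι ≫ (T ⊗ Wm).hom)
  let i : T' ⟶ T ⊗ Wm := Over.homMk O.ι rfl
  let π : T' ⟶ T := i ≫ fst T Wm
  haveI : Flat (fst T Wm).left := by
    haveI := flat_base (k := k) (C := C) (m := m)
    exact inferInstanceAs (Flat (pullback.fst T.hom Wm.hom))
  haveI : LocallyOfFinitePresentation (fst T Wm).left := by
    haveI := lfp_base (k := k) (C := C) (m := m)
    exact inferInstanceAs (LocallyOfFinitePresentation (pullback.fst T.hom Wm.hom))
  haveI : Flat π.left := inferInstanceAs (Flat (O.ι ≫ (fst T Wm).left))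
  haveI : LocallyOfFinitePresentation π.left := inferInstanceAs (LocallyOfFinitePresentation (O.ι ≫ (fst T Wm).left))
  haveI : Surjective π.left := ⟨fun t => by
    obtain ⟨o, ho, rfl⟩ := hx t
    exact ⟨⟨o, ho⟩, rfl⟩⟩
  let z : Fin m → (T' ⟶ Over.mk f) := fun l => (i ≫ snd T Wm) ≫ pwπ f m l
  let x' : Fin n → (T' ⟶ Over.mk f) := fun j => π ≫ x j
  let y' : Fin n → (T' ⟶ Over.mk f) := fun j => π ≫ y j
  let a := app hN x' z
  let b := app hN y' z
  have hai : a = fun j => i ≫ aa hN x j := (comp_aa hN x i).symm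
  have ha : ∀ t, Good (PicF.XTproj f T') (divC a) t ∧ Distinct a t := fun t => by
    rw [hai]
    refine ⟨?_, distinct_pull i t.2.2⟩
    rw [← pull_divC]
    exact (good_pull i _ t).2 t.2.1
  have hcl : divC b = divC a * pullPc (PicF.XTproj f T') (pullPc π.left μ') := by
    have h := congrArg (pullPc (PicF.XTmap f π)) hμ
    rw [map_mul, pull_divC, pull_divC, pullPc_comp] at h
    rw [divC_app, divC_app, show divC y' = divC x' * pullPc (PicF.XTproj f T') (pullPc π.left μ') from
      h.trans (congrArg (divC x' * ·) ((congrArg (fun w => pullPc w μ') (by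
        exact (pullback.lift_snd _ _ _))).trans (pullPc_comp _ _ _).symm))]
    exact mul_right_comm _ _ _
  have hb : ∀ t, Distinct b t := fun t => by
    obtain ⟨Ω, _, _, τ, g, rfl⟩ := exists_geom (S := Spec (CommRingCat.of k)) (T := T') t
    refine distinct_of_pull g (distinct_of_cls τ ?_ (distinct_pull g (ha _).2) ?_)
    · rw [← pull_divC]
      exact (good_pull g _ _).2 (ha _).1
    · rw [← pull_divC, ← pull_divC, hcl, map_mul, pullPc_comp,
        show PicF.XTmap f g ≫ PicF.XTproj f T' = PicF.XTproj f (Over.mk τ) ≫ g.left from pullback.lift_snd _ _ _,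
        ← pullPc_comp, pc_base_eq_one (pullPc g.left _), map_one, _root_.mul_one]
  have hI := divI_eq (fun t => (ha t).1) hcl
  have hloc : ∀ t : T'.left, ∃ V : T'.left.Opens, t ∈ V ∧
      V.ι ≫ (π.left ≫ (pwLift f x).left ≫ q) = V.ι ≫ (π.left ≫ (pwLift f y).left ≫ q) := by
    intro t
    obtain ⟨V, p, ht, hV⟩ := exists_open_match (ha t).2 (hb t) hI
    refine ⟨V, ht, ?_⟩
    let R : Fin m → Fin (N + 1) := fun l => Fin.cast hN (Fin.natAdd n l)
    let L : Fin n → Fin (N + 1) := fun j => Fin.cast hN (Fin.castAdd m j)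
    have hfix : ∀ l, p (R l) = R l := fun l => by
      by_contra hne
      refine (ha t).2 (p (R l)) (R l) hne ⟨t, ?_⟩
      have e := hV (R l)
      rw [show b (R l) = a (R l) from (app_right hN y' z l).trans (app_right hN x' z l).symm] at e
      have e' : V.ι ≫ sct f (a (R l)) = V.ι ≫ sct f (a (p (R l))) := pullback.hom_ext
        (by simpa only [Category.assoc, sct, pullback.lift_fst] using e)
        (by simp only [Category.assoc, sct, pullback.lift_snd])
      exact congrArg (fun m => m.base (⟨t, ht⟩ : V)) e'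
    have hleft : ∀ j, ∃ j', p (L j) = L j' := fun j => by
      obtain ⟨c, hc⟩ : ∃ c, p (L j) = Fin.cast hN c := ⟨Fin.cast hN.symm (p (L j)), by simp⟩
      induction c using Fin.addCases with
      | left c' => exact ⟨c', hc⟩
      | right c' =>
        have h1 : L j = R c' := p.injective (hc.trans (hfix c').symm)
        have h2 : j.val = n + c'.val := congrArg Fin.val h1
        have := j.isLt
        omega
    choose e he using hleft
    have heinj : Function.Injective e := fun j j' hjj => by
      have h1 := p.injective ((he j).trans ((congrArg L hjj).trans (he j').symm))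
      exact Fin.ext (show j.val = j'.val from (congrArg Fin.val h1 : _))
    let s : Equiv.Perm (Fin n) := (Equiv.ofBijective e (Finite.injective_iff_bijective.1 heinj))
    have key : V.ι ≫ π.left ≫ (pwLift f y).left =
        (V.ι ≫ π.left ≫ (pwLift f x).left) ≫ SymProd.permHom f n s.symm := by
      refine WidePullback.hom_ext _ _ _ (fun j => ?_) ?_
      · have hj := hV (L j)
        rw [he j, show b (L j) = y' j from app_left hN y' z j, show a (L (e j)) = x' (e j) from app_left hN x' z _] at hj
        have e1 : (pwLift f y).left ≫ WidePullback.π (fun _ : Fin n => f) j = (y j).left :=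
          congrArg CommaMorphism.left (pwLift_π f y j)
        have e2 : (pwLift f x).left ≫ WidePullback.π (fun _ : Fin n => f) (e j) = (x (e j)).left :=
          congrArg CommaMorphism.left (pwLift_π f x (e j))
        refine ((Category.assoc _ _ _).trans (congrArg (V.ι ≫ ·) ((Category.assoc _ _ _).trans (congrArg (π.left ≫ ·) e1)))).trans ?_
        refine hj.trans (Eq.symm ?_)
        refine (Category.assoc _ _ _).trans ((congrArg ((V.ι ≫ π.left ≫ (pwLift f x).left) ≫ ·)
          (SymProd.permHom_π f n s.symm j)).trans ?_)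
        exact (Category.assoc _ _ _).trans (congrArg (V.ι ≫ ·) ((Category.assoc _ _ _).trans (congrArg (π.left ≫ ·) e2)))
      · refine ((Category.assoc _ _ _).trans (congrArg (V.ι ≫ ·) ((Category.assoc _ _ _).trans
          (congrArg (π.left ≫ ·) (Over.w (pwLift f y)))))).trans (Eq.symm ?_)
        refine (Category.assoc _ _ _).trans ((congrArg ((V.ι ≫ π.left ≫ (pwLift f x).left) ≫ ·)
          (SymProd.permHom_base f n s.symm)).trans ?_)
        exact (Category.assoc _ _ _).trans (congrArg (V.ι ≫ ·) ((Category.assoc _ _ _).trans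
          (congrArg (π.left ≫ ·) (Over.w (pwLift f x)))))
    calc V.ι ≫ (π.left ≫ (pwLift f x).left ≫ q)
        = (V.ι ≫ π.left ≫ (pwLift f x).left) ≫ SymProd.permHom f n s.symm ≫ q := by
          rw [hinv]; simp only [Category.assoc]
      _ = (V.ι ≫ π.left ≫ (pwLift f y).left) ≫ q :=
          (Category.assoc _ _ _).symm.trans (congrArg (· ≫ q) key.symm)
      _ = _ := by simp only [Category.assoc]
  choose V ht hV using hloc
  refine (cancel_epi π.left).1 ?_
  exact (Scheme.openCoverOfIsOpenCover T'.left V (by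
    rw [TopologicalSpace.IsOpenCover, eq_top_iff]
    exact fun t _ => Opens.mem_iSup.2 ⟨t, ht t⟩)).hom_ext _ _ fun t => hV t

variable (K : Type u) [Field K] [Algebra k K] [IsAlgClosed K]

attribute [local instance] overCK

/-- Families with the same value have, after the base change, the same class up to the base. -/
theorem cls_of_app_eq (hdim : topologicalKrullDim C = 1) {d : ℤ} {J : Over (Spec (CommRingCat.of k))}
    {ψ : (ModFun.PicDeg (C ↘ Spec (CommRingCat.of k)) d).Hom ⊤ J}
    (hJ : ModFun.IsCoarseModuli ⊤ (ModFun.PicDeg (C ↘ Spec (CommRingCat.of k)) d) J ψ)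
    {T : Over (Spec (CommRingCat.of K))}
    {E E' : (PicF.XT (C ↘ Spec (CommRingCat.of k)) ((Over.map (spq k K)).obj T)).Modules}
    (h : (ModFun.PicDeg (C ↘ Spec (CommRingCat.of k)) d).ok ((Over.map (spq k K)).obj T) E)
    (h' : (ModFun.PicDeg (C ↘ Spec (CommRingCat.of k)) d).ok ((Over.map (spq k K)).obj T) E')
    (heq : ψ.app _ E trivial h = ψ.app _ E' trivial h') :
    ∃ μ', cls _ E' (invertible_of_okD _ h') = cls _ E (invertible_of_okD _ h) *
      pullPc (PicF.XTproj (C ↘ Spec (CommRingCat.of k)) ((Over.map (spq k K)).obj T)) μ' := by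
  let f := C ↘ Spec (CommRingCat.of k)
  let q := spq k K
  obtain ⟨σK, hσK⟩ := exists_sect hdim K (k := k) (C := C)
  obtain ⟨rK, hc⟩ := exists_repK hdim hJ K σK hσK
  let w := pullPc (eT f q T).hom (cls f E (invertible_of_okD f h)) * tw f q σK hσK d T
  let w' := pullPc (eT f q T).hom (cls f E' (invertible_of_okD f h')) * tw f q σK hσK d T
  obtain ⟨hF, e⟩ := hc T E h (out w) (cl_out w)
  obtain ⟨hF', e'⟩ := hc T E' h' (out w') (cl_out w')
  have h1 : phi0 rK T (PicF.cl (out w)) = phi0 rK T (PicF.cl (out w')) :=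
    (adj q).symm.injective (e.trans (heq.trans e'.symm))
  refine (toR_eq_iff f q σK hσK d).1 ?_
  have h2 := congrArg (fun g => val0 (rK.homEquiv g)) h1
  erw [val0_phi0_cl rK hF, val0_phi0_cl rK hF'] at h2
  show rho _ σK hσK w = rho _ σK hσK w'
  have hw : ∀ (v : Pc (PicF.XT (bcf f q) T)) (H : PicF.IsInvertibleCl (PicF.cl (out v))),
      toPc (PicF.cl (out v)) H = v :=
    fun v H => ext_val ((toPc_val _ _).trans (cl_out v))
  rw [hw, hw] at h2
  exact h2

end Groth.Agent.PicDegField
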