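import Groth.Agent.PicDegField.Field
import Groth.Agent.JacBC.ThetaBC

/-!
# The theta locus without a rational point, and its base change
-/

set_option autoImplicit false
set_option maxHeartbeats 1600000
set_option linter.style.haveILetI false
set_option linter.unusedSectionVars false
set_option backward.isDefEq.respectTransparency false
set_option backward.isDefEq.respectTransparency.types false

universe u

open CategoryTheory CategoryTheory.Limits AlgebraicGeometry TopologicalSpace Opposite MonoidalCategory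
  CartesianMonoidalCategory MonObj

noncomputable section

namespace Groth.Agent.PicDegField

open Groth.Agent Groth.Agent.PicRep Groth.Agent.AlbCurve Groth.Agent.JacBC
open Groth.Agent.JacVarLib (Pc pullPc pullPc_val pullPc_comp ext_val out cl_out isInvertible_out)
open Groth.Agent.GenusOneX (pt)
open scoped Groth.Agent.H23.PicMul

attribute [local instance] Jacobian.curveOver GenusOneX.fibreOver GenusOneX.flat_of_family GenusOneX.lfp_of_family
attribute [local instance] overCK

variable (k : Type u) [Field k] {C : Scheme.{u}} [C.Over (Spec (CommRingCat.of k))]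
  [IsProper (C ↘ Spec (CommRingCat.of k))] [SmoothOfRelativeDimension 1 (C ↘ Spec (CommRingCat.of k))]
  [GeometricallyConnected (C ↘ Spec (CommRingCat.of k))]

/-- **The theta locus is the image of a power of the curve; no rational point is needed.** -/
theorem exists_paramD [IsIntegral C] {d : ℤ} {J : Over (Spec (CommRingCat.of k))} [IsSeparated J.hom]
    (ψ : (ModFun.PicDeg (C ↘ Spec (CommRingCat.of k)) d).Hom ⊤ J) {n : ℕ} {N : C.Modules}
    (hN : PicF.IsInvertible N) (hd : d + Curv2.deg k C N 1 = n) :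
    ∃ (W : Over (Spec (CommRingCat.of k))) (m : W ⟶ J), IsProper W.hom ∧ Smooth W.hom ∧
      Jac.thetaLocus (C ↘ Spec (CommRingCat.of k)) d ψ N = Set.range m.left.base := by
  classical
  let f := C ↘ Spec (CommRingCat.of k)
  haveI : Smooth f := SmoothOfRelativeDimension.smooth (n := 1) _
  obtain ⟨W, ρ, pr, hWp, -, -, hWs, hlift, -⟩ :=
    Jacobian.exists_power f (𝟙_ (Over (Spec (CommRingCat.of k)))) n
  haveI := hWp; haveI := hWs
  have hW : ρ.left = W.hom := (Category.comp_id _).symm.trans (Over.w ρ)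
  haveI : IsProper W.hom := hW ▸ hWp
  haveI : SmoothOfRelativeDimension n W.hom := hW ▸ hWs
  haveI : Smooth W.hom := SmoothOfRelativeDimension.smooth n W.hom
  set vN : Pc C := JacVarLib.mk N hN with hvN
  let gW : PicF.XT f W ⟶ C := pullback.fst f W.hom
  let u : Pc (PicF.XT f W) := divC pr * (pullPc gW vN)⁻¹
  have key : ∀ {Ω : Type u} [Field Ω] (τ : Spec (CommRingCat.of Ω) ⟶ Spec (CommRingCat.of k))
      (y : Over.mk τ ⟶ W), pullPc (PicF.XTmap f y) u =
        divC (fun i => y ≫ pr i) * (pullPc (gT k τ (C := C)) vN)⁻¹ := fun {Ω} _ τ y => by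
    simp only [u]
    rw [map_mul, pull_divC, map_inv, pullPc_comp]
    exact congrArg (fun g => divC (fun i => y ≫ pr i) * (pullPc g vN)⁻¹) (LineDesc.Rig.XTmap_fst y)
  have hdgP : ∀ {Ω : Type u} [Field Ω] [IsAlgClosed Ω] (τ : Spec (CommRingCat.of Ω) ⟶ Spec (CommRingCat.of k))
      (P : Fin n → (Over.mk τ ⟶ Over.mk f)), JacVarLib.dg Ω (divC P) = n := fun {Ω} _ _ τ P => by
    refine JacVarLib.dg_of_eff Ω (Jacobian.curve_dim f τ) ⟨fun i => ptOf τ (P i), ?_⟩
    rw [divC, Finset.prod_congr rfl fun i _ => ptPc_eq_O τ (P i), Finset.prod_inv_distrib, inv_inv]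
  have hu : HasDeg f d W u := by
    intro t
    obtain ⟨Ω, _, _, τ, g, rfl⟩ := exists_geom (S := Spec (CommRingCat.of k)) t
    have hdimC := Jacobian.curve_dim f τ
    haveI := CurveCohLib.isNoetherian_of_proper (k := Ω) (X := PicF.XT f (Over.mk τ))
    rw [← deg_pullPc g, key, deg_eq_dg f τ _ (IsLocalRing.closedPoint Ω), JacVarLib.dg_mul Ω hdimC,
      hdgP, JacVarLib.dg_inv Ω hdimC, hvN, dg_pullFst k τ hN]
    omega
  let E := out u
  have hE : (ModFun.PicDeg f d).ok W E := ok_out f hu
  let m : W ⟶ J := ψ.app W E trivial hE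
  have hpt : ∀ {Ω : Type u} [Field Ω] (τ : Spec (CommRingCat.of Ω) ⟶ Spec (CommRingCat.of k))
      (y : Over.mk τ ⟶ W), cls f ((ModFun.PicDeg f d).pull y E) (invertible_of_okD f (ok_pullD f y hE)) =
        divC (fun i => y ≫ pr i) * (pullPc (gT k τ (C := C)) vN)⁻¹ := fun τ y => by
    rw [← key τ y]
    exact (cls_pull f y (isInvertible_out u)).trans (congrArg _ (cls_out f u))
  refine ⟨W, m, inferInstance, inferInstance, ?_⟩
  have hclosed : IsClosed (Set.range m.left.base) := by
    haveI : IsProper m.left := by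
      haveI : IsProper (m.left ≫ J.hom) := by rw [Over.w m]; infer_instance
      exact IsProper.of_comp m.left J.hom
    exact m.left.isClosedMap.isClosed_range
  suffices hj0 : Jac.jumpLocus f d ψ N = Set.range m.left.base by
    rw [Jac.thetaLocus, hj0, hclosed.closure_eq]
  refine Set.Subset.antisymm ?_ ?_
  · rintro _ ⟨Ω, _, _, τ, hT, L, hL, hsec, p, rfl⟩
    have hdimC := Jacobian.curve_dim f τ
    haveI := CurveCohLib.isNoetherian_of_proper (k := Ω) (X := PicF.XT f (Over.mk τ))
    haveI : GeometricallyConnected (PicF.XT f (Over.mk τ) ↘ Spec (CommRingCat.of Ω)) :=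
      inferInstanceAs (GeometricallyConnected (pullback.snd f τ))
    set vL : Pc (PicF.XT f (Over.mk τ)) := cls f L (invertible_of_okD f hL) with hvL
    let w : Pc (PicF.XT f (Over.mk τ)) := vL * pullPc (gT k τ (C := C)) vN
    obtain ⟨e⟩ : Nonempty (CohB1.tensorMod L ((Scheme.Modules.pullback (gT k τ (C := C))).obj N) ≅ out w) :=
      H23.PicMul.cl_eq_iff.1 (by
        rw [H23.PicMul.cl_tensor, cl_out, Subgroup.coe_mul, Units.val_mul, cls_val, pullPc_val, hvN, JacVarLib.mk_val]
        rfl)
    have hw0 : 0 < JacVarLib.hz Ω w := by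
      haveI := CurveCohLib.finite_HH (k := Ω) (CurveDeg.isCoh_of_isInvertible (isInvertible_out w)) 0
      unfold JacVarLib.hz
      by_contra h0
      have : Subsingleton (Coh.HH (PicF.XT f (Over.mk τ)) (out w) 0) :=
        Module.finrank_zero_iff.1 (Nat.eq_zero_of_not_pos h0)
      exact hsec (QCoh.subsingleton_HH_of_iso e.symm 0 this)
    have hdw : JacVarLib.dg Ω w = n := by
      rw [JacVarLib.dg_mul Ω hdimC, hvN, dg_pullFst k τ hN, hvL, ← deg_eq_dg f τ _ (IsLocalRing.closedPoint Ω),
        hasDeg_of_ok f hL]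
      exact hd
    obtain ⟨z, hz'⟩ := JacVarLib.eff_of_hz_pos Ω hdimC hdw hw0
    choose P hP using fun i => Jacobian.exists_point_of_closed f τ (z i).2
    have hdivC : divC P = w := by
      have hP' : ∀ i, ptPc (P i) = (JacVarLib.O Ω hdimC (z i))⁻¹ := fun i => by
        refine ext_val ?_
        rw [JacVarLib.O_inv_val, ptPc_val]
        exact hP i
      rw [divC, Finset.prod_congr rfl fun i _ => hP' i, Finset.prod_inv_distrib, inv_inv, hz']
    obtain ⟨y, -, hy⟩ := hlift (Over.mk τ) (toUnit _) P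
    refine ⟨y.left p, ?_⟩
    have h : y ≫ m = ψ.app (Over.mk τ) L hT hL := by
      refine (ψ.natural y E trivial trivial hE (ok_pullD f y hE)).symm.trans ?_
      refine ψ.resp _ _ trivial _ hL (r_of_cls f (invertible_of_okD f (ok_pullD f y hE)) (invertible_of_okD f hL) 1 ?_)
      rw [map_one, _root_.mul_one, hpt, show (fun i => y ≫ pr i) = P from funext hy, hdivC, mul_inv_cancel_right]
    exact congrArg (fun a => a.left.base p) h
  · rintro _ ⟨w₀, rfl⟩
    let Ω := AlgebraicClosure (W.left.residueField w₀)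
    let e₀ : Spec (CommRingCat.of Ω) ⟶ W.left :=
      Spec.map (CommRingCat.ofHom (algebraMap (W.left.residueField w₀) Ω)) ≫ W.left.fromSpecResidueField w₀
    let τ := e₀ ≫ W.hom
    let y : Over.mk τ ⟶ W := Over.homMk e₀ rfl
    have hdimC := Jacobian.curve_dim f τ
    haveI := CurveCohLib.isNoetherian_of_proper (k := Ω) (X := PicF.XT f (Over.mk τ))
    let L := (ModFun.PicDeg f d).pull y E
    have hok : (ModFun.PicDeg f d).ok (Over.mk τ) L := ok_pullD f y hE
    have hval : ψ.app (Over.mk τ) L trivial hok = y ≫ m := ψ.natural y E trivial trivial hE hok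
    refine ⟨Ω, inferInstance, inferInstance, τ, trivial, L, hok, fun hss => ?_, IsLocalRing.closedPoint Ω, ?_⟩
    · let P := fun i => y ≫ pr i
      obtain ⟨e⟩ : Nonempty (CohB1.tensorMod L ((Scheme.Modules.pullback (gT k τ (C := C))).obj N) ≅ out (divC P)) :=
        H23.PicMul.cl_eq_iff.1 (by
          rw [H23.PicMul.cl_tensor, cl_out]
          show _ * PicF.pullCl (gT k τ (C := C)) (PicF.cl N) = _
          rw [← cls_val f L (invertible_of_okD f hok), hpt, ← JacVarLib.mk_val N hN, ← pullPc_val, ← hvN,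
            ← Units.val_mul, ← Subgroup.coe_mul]
          exact congrArg (fun z : Pc (PicF.XT f (Over.mk τ)) => z.1.val) (inv_mul_cancel_right (divC P) _))
      have hpos : 0 < JacVarLib.hz Ω (divC P) := JacVarLib.hz_pos_of_eff Ω hdimC
        ⟨fun i => ptOf τ (P i), by
          rw [divC, Finset.prod_congr rfl fun i _ => ptPc_eq_O τ (P i), Finset.prod_inv_distrib, inv_inv]⟩
      haveI : Subsingleton (Coh.HH (PicF.XT f (Over.mk τ)) (out (divC P)) 0) := QCoh.subsingleton_HH_of_iso e 0 hss
      unfold JacVarLib.hz at hpos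
      rw [Module.finrank_zero_of_subsingleton] at hpos
      exact lt_irrefl _ hpos
    · show (ψ.app (Over.mk τ) L trivial hok).left.base _ = _
      rw [hval]
      show m.left.base (W.left.fromSpecResidueField w₀ _) = _
      rw [Scheme.fromSpecResidueField_apply]

variable (K : Type u) [Field K] [Algebra k K]
  (σK : Spec (CommRingCat.of K) ⟶ CK k K C) (hσK : σK ≫ bcf (C ↘ Spec (CommRingCat.of k)) (spq k K) = 𝟙 _)

/-- The twisted class over the bigger field. -/
def vNK (d : ℤ) {N : C.Modules} (hN : PicF.IsInvertible N) : Pc (CK k K C) :=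
  pullPc (prC k K (C := C)) (JacVarLib.mk N hN) *
    (JacVarLib.mk (ClSub.idealMod σK.ker) (GenusOneX.isInvertible_ker _ hσK) ^ d)⁻¹

/-- The twisted module over the bigger field. -/
abbrev NKd (d : ℤ) {N : C.Modules} (hN : PicF.IsInvertible N) : (CK k K C).Modules := out (vNK k K σK hσK d hN)

theorem pull_vNK (d : ℤ) {N : C.Modules} (hN : PicF.IsInvertible N) (T : Over (Spec (CommRingCat.of K))) :
    pullPc (pullback.fst (bcf (C ↘ Spec (CommRingCat.of k)) (spq k K)) T.hom :
        PicF.XT (bcf (C ↘ Spec (CommRingCat.of k)) (spq k K)) T ⟶ CK k K C) (vNK k K σK hσK d hN) *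
      tw (C ↘ Spec (CommRingCat.of k)) (spq k K) σK hσK d T =
      pullPc ((eT (C ↘ Spec (CommRingCat.of k)) (spq k K) T).hom ≫
        pullback.fst (C ↘ Spec (CommRingCat.of k)) ((Over.map (spq k K)).obj T).hom) (JacVarLib.mk N hN) := by
  let f := C ↘ Spec (CommRingCat.of k)
  let g : PicF.XT (bcf f (spq k K)) T ⟶ CK k K C := pullback.fst (bcf f (spq k K)) T.hom
  have hpt : ptPc (pt (bcf f (spq k K)) σK hσK T) =
      pullPc g (JacVarLib.mk (ClSub.idealMod σK.ker) (GenusOneX.isInvertible_ker _ hσK)) := by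
    refine ext_val ?_
    rw [pullPc_val, JacVarLib.mk_val]
    exact (cl_fst_section (bcf f (spq k K)) σK hσK T).symm
  show pullPc g _ * _ = _
  rw [vNK, map_mul, map_inv, map_zpow, ← hpt, tw, inv_mul_cancel_right, pullPc_comp]
  refine congrArg (fun m => pullPc m (JacVarLib.mk N hN)) ?_
  exact (pullbackLeftPullbackSndIso_hom_fst f (spq k K) T.hom).symm

theorem deg_NKd (hdim : topologicalKrullDim C = 1) [IsAlgClosed K] {d : ℤ} {N : C.Modules}
    (hN : PicF.IsInvertible N) :
    Curv2.deg K (CK k K C) (NKd k K σK hσK d hN) 1 = Curv2.deg k C N 1 + d := by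
  haveI : IsIntegral (CK k K C) := CurveStable.isIntegral_of_geometricallyConnected (k := K)
  have hd := dim_CK k K hdim (C := C)
  show JacVarLib.dg K (vNK k K σK hσK d hN) = _
  have h1 : JacVarLib.dg K (pullPc (prC k K (C := C)) (JacVarLib.mk N hN)) = Curv2.deg k C N 1 := by
    obtain ⟨e⟩ : Nonempty (out (pullPc (prC k K (C := C)) (JacVarLib.mk N hN)) ≅
        (Scheme.Modules.pullback (prC k K (C := C))).obj N) := H23.PicMul.cl_eq_iff.1 (by
      show PicF.cl (out (pullPc (prC k K (C := C)) (JacVarLib.mk N hN))) = PicF.pullCl _ (PicF.cl N)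
      rw [cl_out, pullPc_val, JacVarLib.mk_val])
    exact (CurveRR.deg_congr K e 1).trans (deg_CK k K hN)
  let P : 𝟙_ (Over (Spec (CommRingCat.of K))) ⟶ Over.mk (CK k K C ↘ Spec (CommRingCat.of K)) := Over.homMk σK hσK
  have h2 : JacVarLib.mk (ClSub.idealMod σK.ker) (GenusOneX.isInvertible_ker _ hσK) =
      (JacVarLib.O K hd (JacVarLib.pt K P))⁻¹ := by
    refine ext_val ?_
    exact (JacVarLib.mk_val _ _).trans (JacVarLib.cl_ker K hd P)
  rw [vNK, JacVarLib.dg_mul K hd, h1, JacVarLib.dg_inv K hd, h2]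
  have hz : ∀ i : ℤ, JacVarLib.dg K ((JacVarLib.O K hd (JacVarLib.pt K P))⁻¹ ^ i) = -i := fun i => by
    cases i with
    | ofNat j =>
      rw [Int.ofNat_eq_natCast, zpow_natCast, JacVarLib.dg_pow K hd, JacVarLib.dg_inv K hd, JacVarLib.dg_O]
      ring
    | negSucc j =>
      rw [zpow_negSucc, JacVarLib.dg_inv K hd, JacVarLib.dg_pow K hd, JacVarLib.dg_inv K hd, JacVarLib.dg_O,
        Int.negSucc_eq]
      push_cast
      ring
  rw [hz]
  ring

variable [IsAlgClosed K] {d : ℤ} {J : Over (Spec (CommRingCat.of k))}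
  {ψ : (ModFun.PicDeg (C ↘ Spec (CommRingCat.of k)) d).Hom ⊤ J}
  (rK : (funct0 (bcf (C ↘ Spec (CommRingCat.of k)) (spq k K)) σK hσK).RepresentableBy (Red.bc (spq k K) J))
  (hc : ∀ (T : Over (Spec (CommRingCat.of K)))
    (E : (PicF.XT (C ↘ Spec (CommRingCat.of k)) ((Over.map (spq k K)).obj T)).Modules)
    (h : (ModFun.PicDeg (C ↘ Spec (CommRingCat.of k)) d).ok ((Over.map (spq k K)).obj T) E)
    (E' : (PicF.XT (bcf (C ↘ Spec (CommRingCat.of k)) (spq k K)) T).Modules),
    PicF.cl E' = (pullPc (eT (C ↘ Spec (CommRingCat.of k)) (spq k K) T).hom (cls _ E (invertible_of_okD _ h)) *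
        tw (C ↘ Spec (CommRingCat.of k)) (spq k K) σK hσK d T).1.val →
      ∃ _hE' : (ModFun.PicDeg (bcf (C ↘ Spec (CommRingCat.of k)) (spq k K)) 0).ok T E',
        (adj (spq k K)).symm (phi0 rK T (PicF.cl E')) = ψ.app _ E trivial h)

include hc in
theorem jumpLocus_bcD {N : C.Modules} (hN : PicF.IsInvertible N) :
    Jac.jumpLocus (CK k K C ↘ Spec (CommRingCat.of K)) 0 (psi0 rK) (NKd k K σK hσK d hN) =
      (pullback.fst J.hom (spq k K)).base ⁻¹' Jac.jumpLocus (C ↘ Spec (CommRingCat.of k)) d ψ N := by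
  let f := C ↘ Spec (CommRingCat.of k)
  let q := spq k K
  let f' := bcf f q
  set vK := vNK k K σK hσK d hN with hvK
  set vN : Pc C := JacVarLib.mk N hN with hvN
  have hsec : ∀ {Ω Ω' : Type u} [Field Ω] [Field Ω'] [Algebra Ω Ω'] (s : Spec (CommRingCat.of Ω) ⟶ Spec (CommRingCat.of k))
      (T : Over (Spec (CommRingCat.of K))) (t : Spec (CommRingCat.of Ω') ⟶ Spec (CommRingCat.of K)) (hTt : T = Over.mk t)
      (g : PicF.XT f' (Over.mk t) ⟶ PicF.XT f (Over.mk s)),
      IsPullback g (PicF.XTproj f' (Over.mk t)) (PicF.XTproj f (Over.mk s)) (spq Ω Ω') →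
      g ≫ gT k s (C := C) = (eT f q (Over.mk t)).hom ≫ pullback.fst f ((Over.map q).obj (Over.mk t)).hom →
      ∀ (L : (PicF.XT f (Over.mk s)).Modules) (hL : PicF.IsInvertible L) (L' : (PicF.XT f' (Over.mk t)).Modules),
      PicF.cl L' = (pullPc g (cls f L hL) * tw f q σK hσK d (Over.mk t)).1.val →
      (Sec f' (NKd k K σK hσK d hN) t L' ↔ Sec f N s L) := by
    intro Ω Ω' _ _ _ s T t _ g hpb hg L hL L' hL'
    letI : (PicF.XT f (Over.mk s)).Over (Spec (CommRingCat.of Ω)) := ⟨PicF.XTproj f (Over.mk s)⟩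
    letI : (PicF.XT f' (Over.mk t)).Over (Spec (CommRingCat.of Ω')) := ⟨PicF.XTproj f' (Over.mk t)⟩
    haveI : IsProper (PicF.XT f (Over.mk s) ↘ Spec (CommRingCat.of Ω)) := inferInstanceAs (IsProper (pullback.snd f s))
    haveI : IsProper (PicF.XT f' (Over.mk t) ↘ Spec (CommRingCat.of Ω')) :=
      inferInstanceAs (IsProper (pullback.snd f' t))
    refine not_congr ?_
    have hM : PicF.IsInvertible (CohB1.tensorMod L ((Scheme.Modules.pullback (pullback.fst f s)).obj N)) :=
      InvX.isInvertible_tensorMod hL (PicClLib.isInvertible_pullback _ hN)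
    let g' : PicF.XT f' (Over.mk t) ⟶ CK k K C := pullback.fst f' t
    have h1 : pullPc g (cls f L hL) * tw f q σK hσK d (Over.mk t) * pullPc g' vK =
        pullPc g (cls f L hL * pullPc (gT k s (C := C)) vN) := by
      rw [map_mul, pullPc_comp, hg, _root_.mul_assoc, mul_comm (tw f q σK hσK d (Over.mk t))]
      exact congrArg (pullPc g (cls f L hL) * ·) (pull_vNK k K σK hσK d hN (Over.mk t))
    obtain ⟨e⟩ : Nonempty (CohB1.tensorMod L' ((Scheme.Modules.pullback (pullback.fst f' t)).obj (NKd k K σK hσK d hN)) ≅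
        (Scheme.Modules.pullback g).obj (CohB1.tensorMod L ((Scheme.Modules.pullback (pullback.fst f s)).obj N))) := by
      refine H23.PicMul.cl_eq_iff.1 ((H23.PicMul.cl_tensor _ _).trans ?_)
      show PicF.cl L' * PicF.pullCl g' (PicF.cl (out vK)) =
        PicF.pullCl g (PicF.cl (CohB1.tensorMod L ((Scheme.Modules.pullback (gT k s (C := C))).obj N)))
      rw [hL', cl_out, ← pullPc_val, ← Units.val_mul, ← Subgroup.coe_mul, h1, pullPc_val]
      refine congrArg (PicF.pullCl g) ?_
      rw [H23.PicMul.cl_tensor, Subgroup.coe_mul, Units.val_mul, cls_val, pullPc_val, hvN, JacVarLib.mk_val]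
      rfl
    exact Iff.trans ⟨QCoh.subsingleton_HH_of_iso e 0, QCoh.subsingleton_HH_of_iso e.symm 0⟩
      (subsingleton_HH_bc Ω Ω' g hpb hM)
  ext y
  constructor
  · rintro ⟨Ω, _, _, t, hT, L', hL', hsecL, p, rfl⟩
    let T : Over (Spec (CommRingCat.of K)) := Over.mk t
    let v := pullPc (eT f q T).inv (cls f' L' (invertible_of_okD f' hL') * (tw f q σK hσK d T)⁻¹)
    have hv : HasDeg f d ((Over.map q).obj T) v := by
      refine (hasDeg_eT f q v d).1 ?_
      rw [pull_hom_inv]
      have h := (hasDeg_of_ok f' hL').mul (hasDeg_tw f q σK hσK d T).inv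
      rwa [neg_neg, zero_add] at h
    let L := out v
    have hok : (ModFun.PicDeg f d).ok ((Over.map q).obj T) L := ok_out f hv
    have hcl : PicF.cl L' =
        (pullPc (eT f q T).hom (cls f L (invertible_of_okD f hok)) * tw f q σK hσK d T).1.val := by
      rw [cls_out, pull_hom_inv, inv_mul_cancel_right, cls_val]
    obtain ⟨hE', he⟩ := hc T L hok L' hcl
    refine ⟨Ω, inferInstance, inferInstance, t ≫ q, trivial, L, hok, ?_, p, ?_⟩
    · refine (hsec (Ω := Ω) (Ω' := Ω) (t ≫ q) T t rfl (eT f q T).hom ?_ rfl L _ L' hcl).1 hsecL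
      rw [show spq Ω Ω = 𝟙 _ from Spec.map_id _]
      haveI : IsIso (𝟙 (Spec (CommRingCat.of Ω))) := IsIso.id _
      exact IsPullback.of_horiz_isIso ⟨(proj_eT q T).trans (Category.comp_id _).symm⟩
    · show (ψ.app _ L _ hok).left p = pullback.fst J.hom q (((psi0 rK).app T L' hT hL').left p)
      rw [← he]
      erw [adj_symm_left]
      rfl
  · rintro ⟨Ω, _, _, t, hT, E, hE, hsecE, p, hp⟩
    let T : Over (Spec (CommRingCat.of k)) := Over.mk t
    let x : T ⟶ J := ψ.app T E hT hE
    obtain ⟨z, hz1, hz2⟩ := Scheme.Pullback.exists_preimage_pullback (f := pullback.fst J.hom q) (g := x.left) y p hp.symm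
    let P := pullback (pullback.fst J.hom q) x.left
    let Ω' := AlgebraicClosure (P.residueField z)
    let e : Spec (CommRingCat.of Ω') ⟶ P :=
      Spec.map (CommRingCat.ofHom (algebraMap (P.residueField z) Ω')) ≫ P.fromSpecResidueField z
    let a : Spec (CommRingCat.of Ω') ⟶ Spec (CommRingCat.of Ω) := e ≫ pullback.snd _ _
    let w₀ : Spec (CommRingCat.of Ω') ⟶ (Red.bc q J).left := e ≫ pullback.fst _ _
    let T' : Over (Spec (CommRingCat.of K)) := Over.mk (w₀ ≫ (Red.bc q J).hom)
    let w : T' ⟶ Red.bc q J := Over.homMk w₀ rfl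
    have hax : a ≫ x.left = w₀ ≫ pullback.fst J.hom q := by
      simp only [a, w₀, Category.assoc]
      exact congrArg (e ≫ ·) pullback.condition.symm
    have hat : a ≫ t = T'.hom ≫ q := by
      have h1 : (w₀ ≫ pullback.fst J.hom q) ≫ J.hom = (w₀ ≫ pullback.snd J.hom q) ≫ q :=
        (Category.assoc _ _ _).trans ((congrArg (w₀ ≫ ·) pullback.condition).trans (Category.assoc _ _ _).symm)
      refine Eq.trans ?_ h1
      rw [← hax]
      exact ((Category.assoc _ _ _).trans (congrArg (a ≫ ·) (Over.w x))).symm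
    let g : (Over.map q).obj T' ⟶ T := Over.homMk a hat
    let L : (PicF.XT f ((Over.map q).obj T')).Modules := (ModFun.PicDeg f d).pull g E
    have hok : (ModFun.PicDeg f d).ok ((Over.map q).obj T') L := ok_pullD f g hE
    let v' := pullPc (eT f q T').hom (cls f L (invertible_of_okD f hok)) * tw f q σK hσK d T'
    let L' : (PicF.XT f' T').Modules := out v'
    obtain ⟨hE', he⟩ := hc T' L hok L' (cl_out v')
    have hval : (psi0 rK).app T' L' trivial hE' = w := by
      refine (adj q).symm.injective (he.trans ?_)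
      rw [ψ.natural g E hT trivial hE]
      refine Over.OverMorphism.ext (hax.trans ?_)
      exact (adj_symm_left q w).symm
    letI : Algebra Ω Ω' := (Spec.preimage a).hom.toAlgebra
    refine ⟨Ω', inferInstance, inferInstance, T'.hom, trivial, L', hE', ?_, IsLocalRing.closedPoint Ω', ?_⟩
    · refine (hsec (Ω := Ω) (Ω' := Ω') t T' T'.hom rfl ((eT f q T').hom ≫ PicF.XTmap f g) ?_ ?_ E
        (invertible_of_okD f hE) L' ?_).2 hsecE
      · rw [show spq Ω Ω' = a from Spec.map_preimage _]
        have h1 : IsPullback (eT f q T').hom (PicF.XTproj f' T') (PicF.XTproj f ((Over.map q).obj T')) (𝟙 _) :=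
          IsPullback.of_horiz_isIso ⟨(proj_eT q T').trans (Category.comp_id _).symm⟩
        have h2 := h1.paste_horiz (LineDesc.Rig.isPullback_XTmap (f := f) g)
        rw [Category.id_comp] at h2
        exact h2
      · rw [Category.assoc]
        exact congrArg ((eT f q T').hom ≫ ·) (LineDesc.Rig.XTmap_fst g)
      · refine (cl_out v').trans (congrArg (fun z : Pc _ => z.1.val) ?_)
        simp only [v']
        rw [show cls f L (invertible_of_okD f hok) = pullPc (PicF.XTmap f g) (cls f E (invertible_of_okD f hE)) from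
          cls_pull f g _, pullPc_comp]
        rfl
    · show ((psi0 rK).app T' L' trivial hE').left (IsLocalRing.closedPoint Ω') = y
      rw [hval]
      show (pullback.fst (pullback.fst J.hom q) x.left).base (P.fromSpecResidueField z _) = y
      rw [Scheme.fromSpecResidueField_apply, hz1]

include hc in
theorem thetaLocus_bcD {N : C.Modules} (hN : PicF.IsInvertible N) :
    Jac.thetaLocus (CK k K C ↘ Spec (CommRingCat.of K)) 0 (psi0 rK) (NKd k K σK hσK d hN) =
      (pullback.fst J.hom (spq k K)).base ⁻¹' Jac.thetaLocus (C ↘ Spec (CommRingCat.of k)) d ψ N := by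
  haveI : UniversallyOpen (spq k K) := FBaseLib.universallyOpen_spec_map_field _
  haveI : UniversallyOpen (pullback.fst J.hom (spq k K)) := inferInstance
  rw [Jac.thetaLocus, Jac.thetaLocus, jumpLocus_bcD k K σK hσK rK hc hN]
  exact ((pullback.fst J.hom (spq k K)).isOpenMap.preimage_closure_eq_closure_preimage
    (pullback.fst J.hom (spq k K)).continuous _).symm

variable [IsIntegral C] [IsSeparated J.hom] [GrpObj (Red.bc (spq k K) J)] [IsCommMonObj (Red.bc (spq k K) J)]
  (hJK : Jac.IsJacobian (CK k K C ↘ Spec (CommRingCat.of K)) ⊤ (Red.bc (spq k K) J) (psi0 rK))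
  (hmulK : ∀ (T : Over (Spec (CommRingCat.of K))) (a b : T ⟶ Red.bc (spq k K) J),
    val0 (rK.homEquiv (a * b)) = val0 (rK.homEquiv a) * val0 (rK.homEquiv b))

include hc hJK hmulK in
/-- **The theta line bundle after base change, with no rational point.** -/
theorem isThetaLB_bcD (hdim : topologicalKrullDim C = 1) {n : ℕ} (hn : Curv2.genus k C = n + 1) {N : C.Modules}
    (hN : PicF.IsInvertible N) (hNdeg : d + Curv2.deg k C N 1 = n) {Θ : J.left.Modules}
    (hΘ : Jac.IsThetaLB (C ↘ Spec (CommRingCat.of k)) d ψ N Θ) :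
    Jac.IsThetaLB (CK k K C ↘ Spec (CommRingCat.of K)) 0 (psi0 rK) (NKd k K σK hσK d hN)
      ((Scheme.Modules.pullback (pullback.fst J.hom (spq k K))).obj Θ) := by
  obtain ⟨hΘi, hΘI⟩ := hΘ
  obtain ⟨W, m, hWp, hWs, hrange⟩ := exists_paramD k ψ hN hNdeg
  haveI := hWp; haveI := hWs
  haveI : IsProper m.left := by
    haveI : IsProper (m.left ≫ J.hom) := by rw [Over.w m]; infer_instance
    exact IsProper.of_comp m.left J.hom
  let q := spq k K
  let p : (Red.bc q J).left ⟶ J.left := pullback.fst J.hom q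
  haveI : Flat q := GrpSchLib.flat_spec_map_field _
  haveI : Flat p := MorphismProperty.pullback_fst (P := @Flat) J.hom q inferInstance
  haveI : IsReduced W.left := GrpSchLib.isReduced_of_smooth_field W.hom
  haveI : IsReduced (pullback m.left p) := by
    have hb : IsPullback (pullback.fst m.left p) (pullback.snd m.left p ≫ pullback.snd J.hom q) W.hom q := by
      have h := (IsPullback.of_hasPullback m.left p).paste_vert (IsPullback.of_hasPullback J.hom q)
      rwa [Over.w m] at h
    haveI : Smooth (pullback.snd m.left p ≫ pullback.snd J.hom q) :=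
      MorphismProperty.of_isPullback (P := @Smooth) hb inferInstance
    exact GrpSchLib.isReduced_of_smooth_field (pullback.snd m.left p ≫ pullback.snd J.hom q)
  set f' := CK k K C ↘ Spec (CommRingCat.of K)
  let IK := Scheme.IdealSheafData.vanishingIdeal
    ⟨Jac.thetaLocus f' 0 (psi0 rK) (NKd k K σK hσK d hN), isClosed_closure⟩
  let I := Scheme.IdealSheafData.vanishingIdeal ⟨Jac.thetaLocus (C ↘ Spec (CommRingCat.of k)) d ψ N, isClosed_closure⟩
  have hI : I = m.left.ker := by
    rw [JacBC.ker_eq_vanishingIdeal]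
    refine congrArg Scheme.IdealSheafData.vanishingIdeal (Closeds.ext ?_)
    show Jac.thetaLocus _ d ψ N = closure (Set.range m.left.base)
    rw [← hrange]
    exact isClosed_closure.closure_eq.symm
  have hIK : IK = I.comap p := by
    rw [hI, ← S4667.result m.left p, JacBC.ker_eq_vanishingIdeal]
    refine congrArg Scheme.IdealSheafData.vanishingIdeal (Closeds.ext ?_)
    show Jac.thetaLocus f' 0 (psi0 rK) (NKd k K σK hσK d hN) = closure (Set.range (pullback.snd m.left p).base)
    rw [thetaLocus_bcD k K σK hσK rK hc hN, Scheme.Pullback.range_snd]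
    refine Eq.trans ?_ ((IsClosed.preimage p.continuous ?_).closure_eq).symm
    · exact congrArg _ hrange
    · exact m.left.isClosedMap.isClosed_range
  have hdK := dim_CK k K hdim (C := C)
  haveI : IsIntegral (CK k K C) := CurveStable.isIntegral_of_geometricallyConnected (k := K)
  haveI : Smooth f' := SmoothOfRelativeDimension.smooth (n := 1) _
  have hgK : Curv2.genus K (CK k K C) = n + 1 := (genus_CK k K).trans hn
  obtain ⟨jK, hjK⟩ := AlbCurve.exists_abel (σ := σK) (f := f') hσK (psi0 rK)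
  obtain ⟨a, ha⟩ := AlbCurve.exists_thetaLocus_eq K hdK hJK hjK rK (fun _ _ _ _ => rfl) hmulK hgK
    (isInvertible_out (vNK k K σK hσK d hN)) (by
      rw [deg_NKd k K σK hσK hdim hN, add_comm]; exact hNdeg)
  have hIKi : PicF.IsInvertible (ClSub.idealMod IK) := by
    refine (S8914.result _).2 ?_
    have hc' := AlbCurve.isEffCartier_thetaSet K hdK hσK hJK hjK hgK a
    rwa [show IK = Scheme.IdealSheafData.vanishingIdeal (AlbCurve.thetaSet K _ n a) from
      congrArg Scheme.IdealSheafData.vanishingIdeal (Closeds.ext ha)]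
  obtain ⟨hIi, -⟩ := AlbCurve.inverse_data hΘi hΘI
  obtain ⟨e⟩ := CurveAlgEqLib.nonempty_pullback_idealMod p hIi (hIK ▸ hIKi)
  obtain ⟨e'⟩ := hΘI
  refine ⟨PicClLib.isInvertible_pullback p hΘi, ?_⟩
  refine H23.PicMul.cl_eq_iff.1 ?_
  rw [H23.PicMul.cl_tensor]
  show PicF.pullCl p (PicF.cl Θ) * PicF.cl (ClSub.idealMod IK) = _
  have he : PicF.cl (ClSub.idealMod (I.comap p)) = PicF.pullCl p (PicF.cl (ClSub.idealMod I)) :=
    (H23.PicMul.cl_eq_iff.2 ⟨e⟩).symm
  rw [hIK, he, ← H23.PicMul.pullCl_mul, ← H23.PicMul.cl_tensor, H23.PicMul.cl_eq_iff.2 ⟨e'⟩]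
  obtain ⟨u⟩ := PicClLib.nonempty_pullback_structureModule p
  exact H23.PicMul.cl_eq_iff.2 ⟨u⟩

end Groth.Agent.PicDegField
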