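import Groth.Agent.PicDegField.SymImm
import Groth.Agent.S5684
import Groth.Agent.PicRep.Rep
import Groth.Agent.AlbCurve.ThetaLam

/-!
# Families with the same classifying map differ by a line bundle from the base
-/

set_option autoImplicit false
set_option maxHeartbeats 1600000
set_option linter.style.haveILetI false
set_option linter.unusedSectionVars false
set_option backward.isDefEq.respectTransparency false
set_option backward.isDefEq.respectTransparency.types false

universe u

open CategoryTheory CategoryTheory.Limits AlgebraicGeometry TopologicalSpace Opposite MonoidalCategory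
  CartesianMonoidalCategory MonObj

noncomputable section

namespace Groth.Agent.PicDegField

open Groth.Agent Groth.Agent.PicRep Groth.Agent.AlbCurve Groth.Agent.JacBC
open Groth.Agent.JacVarLib (Pc pullPc pullPc_val pullPc_comp ext_val out cl_out isInvertible_out KP img)
open scoped Groth.Agent.H23.PicMul

attribute [local instance] Jacobian.curveOver GenusOneX.fibreOver GenusOneX.flat_of_family GenusOneX.lfp_of_family

variable {k : Type u} [Field k]

/-- Morphisms from a reduced scheme to a separated one are determined by their geometric points. -/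
theorem hom_ext_geom {S : Scheme.{u}} {T J : Over S} [AlgebraicGeometry.IsReduced T.left] [IsSeparated J.hom]
    {a b : T ⟶ J}
    (h : ∀ (Ω : Type u) [Field Ω] [IsAlgClosed Ω] (τ : Spec (CommRingCat.of Ω) ⟶ S) (g : Over.mk τ ⟶ T),
      g ≫ a = g ≫ b) : a = b := by
  let sg : (∐ fun z : T.left => Spec (T.left.residueField z)) ⟶ T.left :=
    Sigma.desc fun z => T.left.fromSpecResidueField z
  haveI : Surjective sg := ⟨fun z => ⟨Sigma.ι (fun z : T.left => Spec (T.left.residueField z)) z
    (IsLocalRing.closedPoint (T.left.residueField z)), by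
      rw [← Scheme.Hom.comp_apply, Sigma.ι_desc]
      exact T.left.fromSpecResidueField_apply z _⟩⟩
  haveI : IsDominant sg := ⟨sg.surjective.denseRange⟩
  refine Over.OverMorphism.ext (ext_of_isDominant_of_isSeparated J.hom ((Over.w a).trans (Over.w b).symm) sg ?_)
  refine Sigma.hom_ext _ _ fun z => ?_
  rw [Sigma.ι_desc_assoc, Sigma.ι_desc_assoc]
  let Ω := AlgebraicClosure (T.left.residueField z)
  let c : Spec (CommRingCat.of Ω) ⟶ Spec (T.left.residueField z) :=
    Spec.map (CommRingCat.ofHom (algebraMap (T.left.residueField z) Ω))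
  haveI : Flat c := GrpSchLib.flat_spec_map_field _
  haveI : Surjective c := GrpSchLib.surjective_spec_map_field _
  haveI : Epi c := inferInstance
  rw [← cancel_epi c, ← Category.assoc, ← Category.assoc]
  exact congrArg CommaMorphism.left
    (h Ω ((c ≫ T.left.fromSpecResidueField z) ≫ T.hom) (Over.homMk (c ≫ T.left.fromSpecResidueField z) rfl))

variable {C : Scheme.{u}} [C.Over (Spec (CommRingCat.of k))]
  [IsProper (C ↘ Spec (CommRingCat.of k))] [SmoothOfRelativeDimension 1 (C ↘ Spec (CommRingCat.of k))]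
  [GeometricallyConnected (C ↘ Spec (CommRingCat.of k))] [IsIntegral C]

/-- The functions on a relative curve come from the base. -/
theorem bijective_app_XTproj (T : Over (Spec (CommRingCat.of k))) (U : T.left.Opens) :
    Function.Bijective ((PicF.XTproj (C ↘ Spec (CommRingCat.of k)) T).app U) := by
  let f := C ↘ Spec (CommRingCat.of k)
  let p := PicF.XTproj f T
  have hpb : IsPullback ((p ⁻¹ᵁ U).ι ≫ pullback.fst f T.hom) (p ∣_ U) f (U.ι ≫ T.hom) :=
    ((isPullback_morphismRestrict p U).flip).paste_horiz (IsPullback.of_hasPullback f T.hom)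
  have h1 : Function.Bijective (p ∣_ U).appTop := by
    rw [← hpb.isoPullback_hom_snd, Scheme.Hom.comp_appTop]
    show Function.Bijective (_ ∘ _)
    exact (H23.SeesawGlobal.bijective_appTop_iso hpb.isoPullback).comp
      (bijective_appTop_snd' (k := k) (X := C) _ _)
  have h2 : ∀ V : T.left.Opens, U.ι ''ᵁ ⊤ = V → Function.Bijective (p.app V) := fun V hV => by
    subst hV
    rw [morphismRestrict_appTop] at h1
    replace h1 : Function.Bijective (((pullback f T.hom).presheaf.map
      (eqToHom (image_morphismRestrict_preimage p U ⊤)).op) ∘ (p.app (U.ι ''ᵁ ⊤))) := h1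
    exact ((ConcreteCategory.bijective_of_isIso ((pullback f T.hom).presheaf.map
      (eqToHom (image_morphismRestrict_preimage p U ⊤)).op)).of_comp_iff' _).1 h1
  exact h2 U U.ι_image_top

variable (K : Type u) [Field K] [Algebra k K] [IsAlgClosed K]

attribute [local instance] overCK

/-- A class which comes from the base after the base change comes from the base. -/
theorem eq_base_of_bc {T : Over (Spec (CommRingCat.of k))}
    (π : (Over.map (spq k K)).obj (Red.bc (spq k K) T) ⟶ T) (hπ : π.left = pullback.fst T.hom (spq k K))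
    {v : Pc (PicF.XT (C ↘ Spec (CommRingCat.of k)) T)} {μ' : Pc (pullback T.hom (spq k K))}
    (h : pullPc (PicF.XTmap (C ↘ Spec (CommRingCat.of k)) π) v =
      pullPc (PicF.XTproj (C ↘ Spec (CommRingCat.of k)) ((Over.map (spq k K)).obj (Red.bc (spq k K) T))) μ') :
    ∃ ν : Pc T.left, v = pullPc (PicF.XTproj (C ↘ Spec (CommRingCat.of k)) T) ν := by
  let f := C ↘ Spec (CommRingCat.of k)
  let g : pullback T.hom (spq k K) ⟶ T.left := pullback.fst T.hom (spq k K)
  haveI : Flat (spq k K) := GrpSchLib.flat_spec_map_field _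
  haveI : Surjective (spq k K) := GrpSchLib.surjective_spec_map_field _
  haveI : Flat g := inferInstance
  haveI : Surjective g := inferInstance
  haveI : QuasiCompact g := inferInstance
  let T' := (Over.map (spq k K)).obj (Red.bc (spq k K) T)
  have hpb : IsPullback (PicF.XTmap f π) (PicF.XTproj f T') (PicF.XTproj f T) g := by
    have h0 := LineDesc.Rig.isPullback_XTmap (f := f) π
    rw [hπ] at h0
    exact h0
  let e := hpb.isoPullback
  have he1 : e.inv ≫ PicF.XTmap f π = pullback.fst (PicF.XTproj f T) g := hpb.isoPullback_inv_fst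
  have he2 : e.inv ≫ PicF.XTproj f T' = pullback.snd (PicF.XTproj f T) g := hpb.isoPullback_inv_snd
  have h' := congrArg (pullPc e.inv) h
  rw [pullPc_comp, pullPc_comp, he1, he2] at h'
  obtain ⟨N, hN, ⟨eN⟩⟩ := S5684.result (PicF.XTproj f T) (bijective_app_XTproj T) g (out v) (isInvertible_out v)
    ⟨out μ', isInvertible_out μ', H23.PicMul.cl_eq_iff.1 (by
      show PicF.pullCl _ (PicF.cl (out v)) = PicF.pullCl _ (PicF.cl (out μ'))
      rw [cl_out, cl_out, ← pullPc_val, ← pullPc_val]
      exact congrArg (fun z : Pc _ => z.1.val) h')⟩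
  refine ⟨JacVarLib.mk N hN, ext_val ?_⟩
  rw [pullPc_val, JacVarLib.mk_val, ← cl_out v]
  exact H23.PicMul.cl_eq_iff.2 ⟨eN⟩

/-- **Families with the same value differ by a line bundle from the base.** -/
theorem cls_eq_of_app_eq (hdim : topologicalKrullDim C = 1) {d : ℤ} {J : Over (Spec (CommRingCat.of k))}
    {ψ : (ModFun.PicDeg (C ↘ Spec (CommRingCat.of k)) d).Hom ⊤ J}
    (hJ : ModFun.IsCoarseModuli ⊤ (ModFun.PicDeg (C ↘ Spec (CommRingCat.of k)) d) J ψ)
    {T : Over (Spec (CommRingCat.of k))} {E E' : (PicF.XT (C ↘ Spec (CommRingCat.of k)) T).Modules}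
    (h : (ModFun.PicDeg (C ↘ Spec (CommRingCat.of k)) d).ok T E)
    (h' : (ModFun.PicDeg (C ↘ Spec (CommRingCat.of k)) d).ok T E')
    (heq : ψ.app T E trivial h = ψ.app T E' trivial h') :
    ∃ ν : Pc T.left, cls _ E' (invertible_of_okD _ h') = cls _ E (invertible_of_okD _ h) *
      pullPc (PicF.XTproj (C ↘ Spec (CommRingCat.of k)) T) ν := by
  let f := C ↘ Spec (CommRingCat.of k)
  let π : (Over.map (spq k (AlgebraicClosure k))).obj (Red.bc (spq k (AlgebraicClosure k)) T) ⟶ T :=
    Over.homMk (pullback.fst T.hom (spq k (AlgebraicClosure k))) pullback.condition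
  obtain ⟨μ', hμ⟩ := cls_of_app_eq (AlgebraicClosure k) hdim hJ (ok_pullD f π h) (ok_pullD f π h') (by
    rw [ψ.natural π E trivial trivial h (ok_pullD f π h), ψ.natural π E' trivial trivial h' (ok_pullD f π h'), heq])
  rw [show cls f ((ModFun.PicDeg f d).pull π E) (invertible_of_okD f (ok_pullD f π h)) = _ from
    cls_pull f π (invertible_of_okD f h),
    show cls f ((ModFun.PicDeg f d).pull π E') (invertible_of_okD f (ok_pullD f π h')) = _ from
    cls_pull f π (invertible_of_okD f h')] at hμ
  obtain ⟨ν, hν⟩ := eq_base_of_bc (AlgebraicClosure k) π rfl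
    (v := (cls f E (invertible_of_okD f h))⁻¹ * cls f E' (invertible_of_okD f h')) (μ' := μ') (by
      rw [map_mul, map_inv, hμ, inv_mul_cancel_left])
  exact ⟨ν, by rw [← hν, mul_inv_cancel_left]⟩

end Groth.Agent.PicDegField

namespace Groth.Agent.PicDegField

open Groth.Agent Groth.Agent.PicRep Groth.Agent.AlbCurve
open Groth.Agent.JacVarLib (Pc pullPc pullPc_val pullPc_comp ext_val out cl_out isInvertible_out KP img Os hz dg)
open scoped Groth.Agent.H23.PicMul

attribute [local instance] Jacobian.curveOver GenusOneX.fibreOver GenusOneX.flat_of_family GenusOneX.lfp_of_family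

variable (k : Type u) [Field k] [IsAlgClosed k] {C : Scheme.{u}} [C.Over (Spec (CommRingCat.of k))]
  [IsProper (C ↘ Spec (CommRingCat.of k))] [SmoothOfRelativeDimension 1 (C ↘ Spec (CommRingCat.of k))]
  [GeometricallyConnected (C ↘ Spec (CommRingCat.of k))] [Smooth (C ↘ Spec (CommRingCat.of k))] [IsIntegral C]
  (hdim : topologicalKrullDim C = 1)
  {σ : Spec (CommRingCat.of k) ⟶ C} {hσ : σ ≫ C ↘ Spec (CommRingCat.of k) = 𝟙 _}
  {J : Over (Spec (CommRingCat.of k))} [GrpObj J] [IsCommMonObj J] [IsProper J.hom]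
  {ψ : (ModFun.PicDeg (C ↘ Spec (CommRingCat.of k)) 0).Hom ⊤ J}
  (hJ : Jac.IsJacobian (C ↘ Spec (CommRingCat.of k)) ⊤ J ψ)
  {j : Over.mk (C ↘ Spec (CommRingCat.of k)) ⟶ J}
  (hj : Jac.IsAbelJacobiAt (C ↘ Spec (CommRingCat.of k)) σ ψ j)

include hσ hdim hJ hj in
/-- The inversion exchanges the theta divisors of residual classes. -/
theorem thetaSet_preimage_inv {n : ℕ} (hn : Curv2.genus k C = n + 1) {a a' : KP k J}
    (h : JacVarLib.cls k hdim hJ a' = JacVarLib.om k hdim / (JacVarLib.cls k hdim hJ a * Os k hdim σ hσ ^ (2 * n))) :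
    Closeds.preimage (thetaSet k j n a) ((𝟙 J)⁻¹ : J ⟶ J).left.continuous = thetaSet k j n a' := by
  haveI := JacVarLib.isSeparated_J k (J := J)
  have hiff : ∀ b : KP k J, img k b ∈ (Closeds.preimage (thetaSet k j n a) ((𝟙 J)⁻¹ : J ⟶ J).left.continuous : Set J.left) ↔
      img k b ∈ (thetaSet k j n a' : Set J.left) := by
    intro b
    have hb : ((𝟙 J)⁻¹ : J ⟶ J).left.base (img k b) = img k b⁻¹ := by
      have e : b ≫ (𝟙 J)⁻¹ = b⁻¹ := by rw [GrpObj.comp_inv, Category.comp_id]
      rw [← e]; rfl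
    rw [Closeds.coe_preimage, Set.mem_preimage, hb, mem_thetaSet k hdim hσ hJ hj, mem_thetaSet k hdim hσ hJ hj,
      JacVarLib.cls_inv, h, div_inv_eq_mul]
    have hrr := JacVarLib.rr k hdim (JacVarLib.cls k hdim hJ a * JacVarLib.cls k hdim hJ b * Os k hdim σ hσ ^ n)
    rw [JacVarLib.dg_mul k hdim, JacVarLib.dg_mul k hdim, JacVarLib.dg_cls, JacVarLib.dg_cls, JacVarLib.dg_pow k hdim,
      JacVarLib.dg_O, hn] at hrr
    rw [show JacVarLib.om k hdim / (JacVarLib.cls k hdim hJ a * Os k hdim σ hσ ^ (2 * n)) / JacVarLib.cls k hdim hJ b * Os k hdim σ hσ ^ n =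
      JacVarLib.om k hdim / (JacVarLib.cls k hdim hJ a * JacVarLib.cls k hdim hJ b * Os k hdim σ hσ ^ n) by
        rw [two_mul, pow_add]; cgroup]
    push_cast at hrr
    omega
  refine Closeds.ext (Set.Subset.antisymm ?_ ?_)
  · exact JacVarLib.subset_of_kp k (𝟙 J) (Closeds.isClosed _) (thetaSet k j n a').isClosed
      (fun x _ => ⟨x, rfl⟩) fun b hb => (hiff b).1 hb
  · exact JacVarLib.subset_of_kp k (𝟙 J) (thetaSet k j n a').isClosed (Closeds.isClosed _)
      (fun x _ => ⟨x, rfl⟩) fun b hb => (hiff b).2 hb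

include hσ hdim hJ hj in
/-- The pullback of a theta bundle under the inversion is the residual theta bundle. -/
theorem isInverse_theta_inv {n : ℕ} (hn : Curv2.genus k C = n + 1) {a a' : KP k J}
    (h : JacVarLib.cls k hdim hJ a' = JacVarLib.om k hdim / (JacVarLib.cls k hdim hJ a * Os k hdim σ hσ ^ (2 * n)))
    {L : J.left.Modules} (hLi : PicF.IsInvertible L)
    (hL : ClSub.IsInverseOf L (ClSub.idealMod (Scheme.IdealSheafData.vanishingIdeal (thetaSet k j n a)))) :
    ClSub.IsInverseOf ((Scheme.Modules.pullback ((𝟙 J)⁻¹ : J ⟶ J).left).obj L)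
      (ClSub.idealMod (Scheme.IdealSheafData.vanishingIdeal (thetaSet k j n a'))) := by
  let i : J ⟶ J := (𝟙 J)⁻¹
  have hii : i ≫ i = 𝟙 J := by rw [GrpObj.comp_inv, Category.comp_id, inv_inv]
  haveI : IsIso i.left := ⟨i.left, by rw [← Over.comp_left, hii]; rfl, by rw [← Over.comp_left, hii]; rfl⟩
  obtain ⟨hi, hv⟩ := inverse_data hLi hL
  have hc : (Scheme.IdealSheafData.vanishingIdeal (thetaSet k j n a)).comap i.left =
      Scheme.IdealSheafData.vanishingIdeal (thetaSet k j n a') := by
    rw [comap_vanishing]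
    exact congrArg Scheme.IdealSheafData.vanishingIdeal (thetaSet_preimage_inv k hdim (hσ := hσ) hJ hj hn h)
  have hi' : PicF.IsInvertible (ClSub.idealMod ((Scheme.IdealSheafData.vanishingIdeal (thetaSet k j n a)).comap i.left)) :=
    (S8914.result _).2 (BlowUpLib.isEffCartier_comap_flat _ ((S8914.result _).1 hi))
  obtain ⟨e⟩ := CurveAlgEqLib.nonempty_pullback_idealMod i.left hi hi'
  obtain ⟨e'⟩ := hL
  refine H23.PicMul.cl_eq_iff.1 ?_
  rw [H23.PicMul.cl_tensor, ← hc, ← H23.PicMul.cl_eq_iff.2 ⟨e⟩]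
  show PicF.pullCl i.left (PicF.cl L) * PicF.pullCl i.left (PicF.cl _) = _
  rw [← H23.PicMul.pullCl_mul, ← H23.PicMul.cl_tensor, H23.PicMul.cl_eq_iff.2 ⟨e'⟩]
  obtain ⟨u⟩ := PicClLib.nonempty_pullback_structureModule i.left
  exact H23.PicMul.cl_eq_iff.2 ⟨u⟩

end Groth.Agent.PicDegField
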