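import Groth.Agent.PicDegField.Univ
import Groth.Agent.PicDegField.SymAbel
import Groth.Agent.AlbCurve.ThetaLocus
import Groth.Agent.AlbCurve.ThetaSeesaw
import Groth.Agent.JacBC.DualBC
import Groth.Agent.JacVarLib.W
import Groth.Agent.Lib.CurveDeg

/-!
# The pullback of the theta bundle under subtraction of a point, on a geometric fibre
-/

set_option autoImplicit false
set_option maxHeartbeats 1600000
set_option linter.style.haveILetI false
set_option linter.unusedSectionVars false
set_option backward.isDefEq.respectTransparency false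
set_option backward.isDefEq.respectTransparency.types false

universe u

open CategoryTheory CategoryTheory.Limits AlgebraicGeometry TopologicalSpace MonoidalCategory
  CartesianMonoidalCategory MonObj

noncomputable section

namespace Groth.Agent.PicDegField

open Groth.Agent
open scoped Groth.Agent.H23.PicMul

variable {k : Type u} [Field k] {X : Scheme.{u}} [X.Over (Spec (CommRingCat.of k))]
  [IsProper (X ↘ Spec (CommRingCat.of k))] [SmoothOfRelativeDimension 1 (X ↘ Spec (CommRingCat.of k))]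
  [GeometricallyConnected (X ↘ Spec (CommRingCat.of k))] [IsIntegral X]
  (hdim : topologicalKrullDim X = 1) {n : ℕ} (hn : Curv2.genus k X = n + 1) {d d' : ℤ} (hd : d = n + 1) (hd' : d' = n)
  {Jg J' : Over (Spec (CommRingCat.of k))}
  {ψg : (ModFun.PicDeg (X ↘ Spec (CommRingCat.of k)) d).Hom ⊤ Jg}
  {ψ' : (ModFun.PicDeg (X ↘ Spec (CommRingCat.of k)) d').Hom ⊤ J'}
  (hJ' : ModFun.IsCoarseModuli ⊤ (ModFun.PicDeg (X ↘ Spec (CommRingCat.of k)) d') J' ψ')
  {Θ' : J'.left.Modules} (hΘ' : Jac.IsThetaLB (X ↘ Spec (CommRingCat.of k)) d' ψ' (Coh.structureModule X) Θ')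
  {fm : Over.mk (X ↘ Spec (CommRingCat.of k)) ⊗ Jg ⟶ J'}
  (hfm : Jac.IsBinOpMap
      (ModFun.Problem.Hom.ofNatTrans (𝟙 ((AlgSp.pyon (Spec (CommRingCat.of k))).obj (Over.mk (X ↘ Spec (CommRingCat.of k)))))) ψg ψ'
      (fun (T : Over (Spec (CommRingCat.of k))) (x : ULift.{u + 1} (T ⟶ Over.mk (X ↘ Spec (CommRingCat.of k))))
        (M N : (PicF.XT (X ↘ Spec (CommRingCat.of k)) T).Modules) =>
        Nonempty (N ≅ CohB1.tensorMod M (ClSub.idealMod
          (pullback.lift x.down.left (𝟙 T.left) ((Over.w x.down).trans (Category.id_comp T.hom).symm) :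
            T.left ⟶ PicF.XT (X ↘ Spec (CommRingCat.of k)) T).ker)))
      fm)

include hdim hn hd hd' hJ' hfm in
/-- **The fibre of the pullback of the theta bundle over a class is that class.** -/
theorem cls_pullback_theta (K : Type u) [Field K] [Algebra k K] [IsAlgClosed K]
    (L : (PicF.XT (X ↘ Spec (CommRingCat.of k)) (Over.mk (JacBC.spq k K))).Modules)
    (hL : (ModFun.PicDeg (X ↘ Spec (CommRingCat.of k)) d).ok (Over.mk (JacBC.spq k K)) L) :
    JacVarLib.pullPc (PicF.XTmap (X ↘ Spec (CommRingCat.of k)) (ψg.app _ L trivial hL) ≫ fm.left)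
        (JacVarLib.mk Θ' hΘ'.1) =
      cls (X ↘ Spec (CommRingCat.of k)) L (invertible_of_okD _ hL) := by
  classical
  let f := X ↘ Spec (CommRingCat.of k)
  let q := JacBC.spq k K
  letI := JacBC.overCK k K (C := X)
  let f' := PicRep.bcf f q
  let fK := JacBC.CK k K X ↘ Spec (CommRingCat.of K)
  have hdK := JacBC.dim_CK k K hdim (C := X)
  haveI : IsIntegral (JacBC.CK k K X) := CurveStable.isIntegral_of_geometricallyConnected (k := K)
  haveI : Smooth fK := SmoothOfRelativeDimension.smooth (n := 1) _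
  obtain ⟨σK, hσK⟩ := exists_sect hdim (k := k) (C := X) K
  obtain ⟨rK, hc⟩ := exists_repK hdim hJ' K σK hσK
  obtain ⟨hJp, -, -⟩ := geometry_of_repK hdim rK
  haveI : IsProper J'.hom := hJp
  haveI : IsProper (Red.bc q J').hom := show IsProper (pullback.snd J'.hom q) from inferInstance
  letI := PicRep.commGrpObj rK
  have hJK := PicRep.isJacobian_psi0 rK
  have hmulK : ∀ (T : Over (Spec (CommRingCat.of K))) (a b : T ⟶ Red.bc q J'),
      PicRep.val0 (rK.homEquiv (a * b)) = PicRep.val0 (rK.homEquiv a) * PicRep.val0 (rK.homEquiv b) :=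
    fun T a b => PicRep.val0_mul rK a b
  have hgK : Curv2.genus K (JacBC.CK k K X) = n + 1 := (JacBC.genus_CK k K).trans hn
  have hN : PicF.IsInvertible (Coh.structureModule X) := InvX.isInvertible_structureModule
  have hd0 : Curv2.deg k X (Coh.structureModule X) 1 = 0 := CurveDeg.deg_structureModule (k := k)
  have hNdeg' : d' + Curv2.deg k X (Coh.structureModule X) 1 = (n : ℤ) := by rw [hd0, hd', add_zero]
  obtain ⟨hΘKi, hΘKI⟩ := isThetaLB_bcD k K σK hσK rK hc hJK hmulK hdim hn hN hNdeg' hΘ'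
  obtain ⟨jK, hjK⟩ := AlbCurve.exists_abel (σ := σK) (f := fK) hσK (PicRep.psi0 rK)
  obtain ⟨a, hacls, ha⟩ := AlbCurve.exists_thetaLocus_eq' K hdK hJK hjK rK (fun _ _ _ _ => rfl) hmulK hgK
    (JacVarLib.isInvertible_out (vNK k K σK hσK d' hN))
    (by rw [deg_NKd k K σK hσK hdim hN, hd0, zero_add, hd'])
  let p : (Red.bc q J').left ⟶ J'.left := pullback.fst J'.hom q
  let i : Red.bc q J' ⟶ Red.bc q J' := (𝟙 (Red.bc q J'))⁻¹
  let S : JacVarLib.Pc (JacBC.CK k K X) := JacVarLib.Os K hdK σK hσK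
  have hSker : JacVarLib.mk (ClSub.idealMod σK.ker) (GenusOneX.isInvertible_ker _ hσK) = S⁻¹ := by
    refine JacVarLib.ext_val ?_
    exact (JacVarLib.mk_val _ _).trans (JacVarLib.cl_ker K hdK (Over.homMk σK hσK))
  have hvN : JacVarLib.mk (JacVarLib.out (vNK k K σK hσK d' hN)) (JacVarLib.isInvertible_out _) = S ^ n := by
    refine JacVarLib.ext_val ?_
    rw [JacVarLib.mk_val, JacVarLib.cl_out]
    refine congrArg (fun z : JacVarLib.Pc _ => z.1.val) ?_
    rw [vNK, hSker, hd', zpow_natCast, inv_pow, inv_inv,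
      show JacVarLib.mk (Coh.structureModule X) hN = 1 from JacVarLib.ext_val (JacVarLib.mk_val _ hN), map_one,
      _root_.one_mul]
  have hinv := isInverse_theta_inv K hdK (hσ := hσK) hJK hjK hgK (a := a) (a' := 1) (by
    rw [JacVarLib.cls_one, hacls, hvN, two_mul, pow_add]
    cgroup) hΘKi (by
    refine Eq.mp ?_ hΘKI
    exact congrArg (fun Z => ClSub.IsInverseOf ((Scheme.Modules.pullback p).obj Θ')
      (ClSub.idealMod (Scheme.IdealSheafData.vanishingIdeal Z))) (Closeds.ext ha))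
  set vK : JacVarLib.Pc (Red.bc q J').left := JacVarLib.mk _ hΘKi with hvK
  set L1 : JacVarLib.Pc (Red.bc q J').left := JacVarLib.pullPc i.left vK with hL1def
  have hΘ1i : PicF.IsInvertible ((Scheme.Modules.pullback i.left).obj ((Scheme.Modules.pullback p).obj Θ')) :=
    PicClLib.isInvertible_pullback _ hΘKi
  obtain ⟨hL1', hL1⟩ := AlbCurve.inverse_data hΘ1i hinv
  rw [show JacVarLib.mk _ hΘ1i = L1 from JacVarLib.ext_val (by
    rw [hL1def, hvK, JacVarLib.pullPc_val, JacVarLib.mk_val, JacVarLib.mk_val]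
    rfl)] at hL1
  -- the class
  let T0 : Over (Spec (CommRingCat.of k)) := Over.mk q
  let a0 : T0 ⟶ Jg := ψg.app T0 L trivial hL
  let vL : JacVarLib.Pc (JacBC.CK k K X) := cls f L (invertible_of_okD f hL)
  have hdvL : JacVarLib.dg K vL = (n : ℤ) + 1 := by
    rw [← hd]
    exact (PicRep.deg_eq_dg f q (cls f L (invertible_of_okD f hL)) (IsLocalRing.closedPoint K)).symm.trans
      (hasDeg_of_ok f hL _)
  obtain ⟨c, hccls⟩ := JacVarLib.exists_cls K hdK hJK (v := vL / S ^ (n + 1)) (by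
    rw [JacVarLib.dg_div K hdK, JacVarLib.dg_pow K hdK, hdvL, JacVarLib.dg_O]; push_cast; ring)
  -- the tautological family
  let T : Over (Spec (CommRingCat.of K)) := Over.mk f'
  let π : (Over.map q).obj T ⟶ Over.mk f := (JacBC.adj q (J := Over.mk f)).symm (𝟙 T)
  let s1 : (Over.map q).obj T ⟶ T0 := Over.homMk f' rfl
  let M := (ModFun.PicDeg f d).pull s1 L
  have hMok : (ModFun.PicDeg f d).ok ((Over.map q).obj T) M := ok_pullD f s1 hL
  obtain ⟨N, hNok, hNR⟩ := hfm.1 ((Over.map q).obj T) ⟨π⟩ M trivial trivial hMok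
  have hN' : ψ'.app ((Over.map q).obj T) N trivial hNok = lift π (s1 ≫ a0) ≫ fm := by
    refine (hfm.2 ((Over.map q).obj T) (⟨π⟩, M) N trivial ⟨trivial, hMok⟩ hNok hNR).trans ?_
    rw [Jac.prodHom_app, ψg.natural s1 L trivial trivial hL hMok]
    rfl
  let jB : T ⟶ Red.bc q J' := JacBC.adj q (ψ'.app ((Over.map q).obj T) N trivial hNok)
  let w := JacVarLib.pullPc (PicRep.eT f q T).hom (cls f N (invertible_of_okD f hNok)) *
    tw f q σK hσK d' T
  obtain ⟨hF, he⟩ := hc T N hNok (JacVarLib.out w) (JacVarLib.cl_out w)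
  have hjB : jB = PicRep.phi0 rK T (PicF.cl (JacVarLib.out w)) := by
    refine (JacBC.adj q).symm.injective (Eq.trans ?_ he.symm)
    exact (JacBC.adj q).symm_apply_apply _
  let g' : PicF.XT f' T ⟶ JacBC.CK k K X := pullback.fst f' T.hom
  have hcN : cls f N (invertible_of_okD f hNok) =
      JacVarLib.pullPc (PicF.XTmap f s1) (cls f L (invertible_of_okD f hL)) * AlbCurve.ptPc π := by
    rw [← show cls f M (invertible_of_okD f hMok) = _ from cls_pull f s1 (invertible_of_okD f hL)]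
    refine JacVarLib.ext_val ?_
    rw [Subgroup.coe_mul, Units.val_mul, cls_val, cls_val, AlbCurve.ptPc, PicRep.toPc_val, ← H23.PicMul.cl_tensor]
    exact H23.PicMul.cl_eq_iff.2 hNR
  have htw : AlbCurve.ptPc (GenusOneX.pt f' σK hσK T) = JacVarLib.pullPc g' S⁻¹ := by
    rw [← hSker]
    refine JacVarLib.ext_val ?_
    rw [JacVarLib.pullPc_val, JacVarLib.mk_val]
    exact (AlbCurve.cl_fst_section f' σK hσK T).symm
  have hwv : w = JacVarLib.pullPc g' (vL * (S ^ n)⁻¹) * AlbCurve.ptPc (f := f') (𝟙 T) := by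
    have hg0 : (PicRep.eT f q T).hom ≫ PicF.XTmap f s1 = g' := by
      refine pullback.hom_ext ?_ ?_
      · rw [Category.assoc]
        erw [LineDesc.Rig.XTmap_fst s1]
        exact pullbackLeftPullbackSndIso_hom_fst f q T.hom
      · rw [Category.assoc]
        erw [LineDesc.Rig.XTmap_snd s1, ← Category.assoc, PicRep.eT_proj]
        exact (pullback.condition (f := f') (g := T.hom)).symm
    simp only [w, tw]
    rw [hcN, map_mul, JacVarLib.pullPc_comp, hg0, JacBC.pull_ptPc_bc, htw, hd', zpow_natCast, map_mul, map_inv,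
      map_inv, map_pow, inv_pow]
    exact mul_right_comm _ _ _
  let jK' : T ⟶ Red.bc q J' := jK
  have hval : jB = jK'⁻¹ * (toUnit T ≫ c) := by
    refine rK.homEquiv.injective (PicRep.val0_injective ?_)
    refine Eq.trans ?_ (hmulK _ _ _).symm
    have h1 : PicRep.val0 (rK.homEquiv jK') =
        PicRep.rho f' σK hσK (AlbCurve.ptPc (GenusOneX.pt f' σK hσK T) * (AlbCurve.ptPc (f := f') (𝟙 T))⁻¹) := by
      have h := AlbCurve.val0_abel rK (fun _ _ _ _ => rfl) hjK (𝟙 T)
      erw [Category.id_comp] at h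
      exact h
    have h2 : PicRep.val0 (rK.homEquiv (toUnit T ≫ c)) = JacVarLib.pullPc g' (vL / S ^ (n + 1)) := by
      rw [rK.homEquiv_comp, PicRep.val0_map]
      erw [AlbCurve.val0_rat K hdK hJK hjK rK (fun _ _ _ _ => rfl) hmulK c]
      refine (JacVarLib.pullPc_comp _ _ _).trans ?_
      refine (congrArg (fun v => JacVarLib.pullPc _ v) hccls).trans ?_
      exact congrArg (fun m => JacVarLib.pullPc m (vL / S ^ (n + 1))) (LineDesc.Rig.XTmap_fst _)
    have h3 : PicRep.val0 (rK.homEquiv jK'⁻¹) = (PicRep.val0 (rK.homEquiv jK'))⁻¹ :=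
      (AlbCurve.valHom rK hmulK T).map_inv jK'
    rw [h2, h3]
    erw [h1]
    have hfix : PicRep.rho f' σK hσK (JacVarLib.pullPc g' (vL / S ^ (n + 1))) = JacVarLib.pullPc g' (vL / S ^ (n + 1)) := by
      rw [← h2]
      exact PicRep.rho_eq_self (PicRep.val0_mem _).1
    rw [← hfix]
    show _ = (AlbCurve.rhoHom f' σK hσK T _)⁻¹ * AlbCurve.rhoHom f' σK hσK T _
    rw [← map_inv, ← map_mul, hjB]
    erw [PicRep.val0_phi0_cl rK hF]
    refine congrArg (PicRep.rho f' σK hσK) ?_
    refine (show PicRep.toPc (PicF.cl (JacVarLib.out w)) _ = w from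
      JacVarLib.ext_val ((PicRep.toPc_val _ _).trans (JacVarLib.cl_out w))).trans ?_
    rw [hwv, htw, map_div, map_mul, map_inv, map_inv, pow_succ, map_mul, map_pow]
    cgroup
  have hjB2 : jB = (jK' ≫ Jac.transl (Red.bc q J') c⁻¹) ≫ i := by
    rw [hval]
    show _ = (jK' ≫ Jac.transl (Red.bc q J') c⁻¹) ≫ (𝟙 (Red.bc q J'))⁻¹
    rw [GrpObj.comp_inv, Category.comp_id, JacVarLib.kp_comp_transl, mul_inv, ← GrpObj.comp_inv, inv_inv]
  let jl : JacBC.CK k K X ⟶ (Red.bc q J').left := jB.left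
  have hjl : jl = AlbCurve.translMap jK c ≫ i.left := congrArg CommaMorphism.left hjB2
  have hjp : jl ≫ p = PicF.XTmap f a0 ≫ fm.left := by
    have h : ((JacBC.adj q (J := J')).symm jB).left = (lift π (s1 ≫ a0) ≫ fm).left :=
      congrArg CommaMorphism.left (((JacBC.adj q (J := J')).symm_apply_apply _).trans hN')
    erw [JacBC.adj_symm_left] at h
    refine h.trans ?_
    rw [Over.comp_left]
    refine congrArg (· ≫ fm.left) ?_
    refine pullback.hom_ext ?_ ?_
    · refine (congrArg CommaMorphism.left (lift_fst π (s1 ≫ a0))).trans ?_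
      exact (JacBC.adj_symm_left q (J := Over.mk f) (𝟙 T)).trans
        ((Category.id_comp _).trans (LineDesc.Rig.XTmap_fst a0).symm)
    · refine (congrArg CommaMorphism.left (lift_snd π (s1 ≫ a0))).trans ?_
      erw [LineDesc.Rig.XTmap_snd a0]
      rfl
  have hpt := AlbCurve.theta_point K hdK hJK hjK rK (fun _ _ _ _ => rfl) hmulK hgK hL1 hL1' c
  rw [hL1def, JacVarLib.pullPc_comp, ← hjl, hccls, div_mul_cancel] at hpt
  show JacVarLib.pullPc (PicF.XTmap f a0 ≫ fm.left) (JacVarLib.mk Θ' hΘ'.1) = vL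
  rw [← hjp, ← JacVarLib.pullPc_comp, ← hpt]
  refine congrArg (JacVarLib.pullPc jl) (JacVarLib.ext_val ?_)
  rw [hvK, JacVarLib.pullPc_val, JacVarLib.mk_val, JacVarLib.mk_val]
  rfl

end Groth.Agent.PicDegField
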